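import Cfsg.Agent.Lib.Small.SLnMinDeg.Key

/-!
The minimal degree of a nontrivial representation of `SL_{k+1}(q)`.
-/

set_option autoImplicit false
set_option linter.unusedSectionVars false

namespace Cfsg.Agent.Small.MinDeg

open Matrix Finset Cfsg.Agent.Small.Generation

variable {F : Type*} [Field F] [Fintype F] [DecidableEq F] {k : ℕ}

/-- The exceptional pairs `(k, q)`. -/
def Exc (k q : ℕ) : Prop := (k = 2 ∧ (q = 2 ∨ q = 4)) ∨ (k = 3 ∧ (q = 2 ∨ q = 3))

theorem good_of_not_exc {k q : ℕ} (hk : 2 ≤ k) (hq : 2 ≤ q) (h : ¬ Exc k q) : Good k q := by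
  unfold Exc at h
  unfold Good
  omega

section Reduce

variable {G : Type*} [Group G] [Finite G]

theorem exists_invariant_compl {V : Type*} [AddCommGroup V] [Module ℂ V] (ρ : Representation ℂ G V)
    (S : Submodule ℂ V) (hS : ∀ g, ∀ x ∈ S, ρ g x ∈ S) :
    ∃ S' : Submodule ℂ V, (∀ g, ∀ x ∈ S', ρ g x ∈ S') ∧ S ⊓ S' = ⊥ ∧ S ⊔ S' = ⊤ := by
  have : NeZero (Nat.card G : ℂ) := ⟨Nat.cast_ne_zero.2 Nat.card_pos.ne'⟩
  have hs : ρ.IsSemisimpleRepresentation :=
    (Representation.isSemisimpleRepresentation_iff_isSemisimpleModule_asModule ρ).2 inferInstance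
  obtain ⟨S', hc⟩ := hs.exists_isCompl ⟨S, fun g v hv => hS g v hv⟩
  exact ⟨S'.toSubmodule, fun g x hx => S'.apply_mem_toSubmodule g hx,
    congrArg Subrepresentation.toSubmodule hc.inf_eq_bot, congrArg Subrepresentation.toSubmodule hc.sup_eq_top⟩

/-- The restriction to an invariant subspace. -/
noncomputable def res {V : Type*} [AddCommGroup V] [Module ℂ V] (ρ : Representation ℂ G V)
    (S : Submodule ℂ V) (hS : ∀ g, ∀ x ∈ S, ρ g x ∈ S) : Representation ℂ G ↥S where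
  toFun g := (ρ g).restrict (hS g)
  map_one' := LinearMap.ext fun v => Subtype.ext (by simp [LinearMap.restrict_apply])
  map_mul' a b := LinearMap.ext fun v => Subtype.ext (by simp [LinearMap.restrict_apply])

omit [Finite G] in
theorem res_apply {V : Type*} [AddCommGroup V] [Module ℂ V] (ρ : Representation ℂ G V)
    (S : Submodule ℂ V) (hS : ∀ g, ∀ x ∈ S, ρ g x ∈ S) (g : G) (v : ↥S) :
    ((res ρ S hS g v : ↥S) : V) = ρ g v.1 := rfl

theorem reduce {b : ℕ}
    (hI : ∀ (V : Type) [AddCommGroup V] [Module ℂ V] [FiniteDimensional ℂ V] [Nontrivial V]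
      (ρ : Representation ℂ G V), (∀ S : Submodule ℂ V, (∀ g, ∀ x ∈ S, ρ g x ∈ S) → S = ⊥ ∨ S = ⊤) →
      (∃ g, ρ g ≠ 1) → b ≤ Module.finrank ℂ V)
    (V : Type) [AddCommGroup V] [Module ℂ V] [FiniteDimensional ℂ V] (ρ : Representation ℂ G V)
    (hne : ∃ g, ρ g ≠ 1) : b ≤ Module.finrank ℂ V := by
  suffices h : ∀ d : ℕ, ∀ (V : Type) [AddCommGroup V] [Module ℂ V] [FiniteDimensional ℂ V]
      (ρ : Representation ℂ G V), (∃ g, ρ g ≠ 1) → Module.finrank ℂ V = d → b ≤ d from h _ V ρ hne rfl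
  intro d
  induction d using Nat.strong_induction_on with
  | _ d ih =>
    intro V _ _ _ ρ hne hd
    obtain ⟨g, hg⟩ := hne
    have : Nontrivial V := by
      by_contra hn
      rw [not_nontrivial_iff_subsingleton] at hn
      exact hg (LinearMap.ext fun x => Subsingleton.elim _ _)
    by_cases hirr : ∀ S : Submodule ℂ V, (∀ g, ∀ x ∈ S, ρ g x ∈ S) → S = ⊥ ∨ S = ⊤
    · exact hd ▸ hI V ρ hirr ⟨g, hg⟩
    push Not at hirr
    obtain ⟨S, hS, hS0, hS1⟩ := hirr
    obtain ⟨S', hS', hi, hsup⟩ := exists_invariant_compl ρ S hS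
    have hS'1 : S' ≠ ⊤ := fun h => hS0 (by rw [h, inf_top_eq] at hi; exact hi)
    have key : ∀ (T : Submodule ℂ V) (hT : ∀ g, ∀ x ∈ T, ρ g x ∈ T), T ≠ ⊤ →
        (∃ x ∈ T, ρ g x ≠ x) → b ≤ d := by
      rintro T hT hT1 ⟨x, hx, hxg⟩
      have hlt : Module.finrank ℂ T < d := hd ▸ Submodule.finrank_lt hT1
      exact le_trans (ih _ hlt T (res ρ T hT)
        ⟨g, fun h => hxg (congrArg Subtype.val (LinearMap.congr_fun h ⟨x, hx⟩))⟩ rfl) hlt.le
    by_contra hb
    refine hg (LinearMap.ext fun v => ?_)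
    obtain ⟨x, hx, y, hy, rfl⟩ := Submodule.mem_sup.1 (hsup ▸ Submodule.mem_top : v ∈ S ⊔ S')
    have h1 : ρ g x = x := by_contra fun h => hb (key S hS hS1 ⟨x, hx, h⟩)
    have h2 : ρ g y = y := by_contra fun h => hb (key S' hS' hS'1 ⟨y, hy, h⟩)
    rw [map_add, h1, h2, Module.End.one_apply]

end Reduce

variable {V : Type*} [AddCommGroup V] [Module ℂ V] [FiniteDimensional ℂ V]

/-- Multiplicity one and no fixed vector imply irreducibility. -/
theorem irr_of_mult_one (ρ : Representation ℂ (Matrix.SpecialLinearGroup (Fin (k + 1)) F) V) (hk : 2 ≤ k)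
    {ψ : AddChar F ℂ} (hψ : ψ ≠ 1) (h1 : mult ρ ψ 1 = 1)
    (hfix : ∀ v : V, (∀ g, ρ g v = v) → v = 0) :
    ∀ S : Submodule ℂ V, (∀ g, ∀ x ∈ S, ρ g x ∈ S) → S = ⊥ ∨ S = ⊤ := by
  intro S hS
  obtain ⟨S', hS', hi, hsup⟩ := exists_invariant_compl ρ S hS
  have hE : ∀ (T : Submodule ℂ V), (∀ g, ∀ x ∈ T, ρ g x ∈ T) → ∀ x ∈ T, E ρ ψ 1 x ∈ T := by
    intro T hT x hx
    rw [E, LinearMap.smul_apply, LinearMap.sum_apply]
    exact T.smul_mem _ (Submodule.sum_mem _ fun r _ => by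
      rw [LinearMap.smul_apply]; exact T.smul_mem _ (hT _ x hx))
  have hkill : ∀ (T : Submodule ℂ V) (hT : ∀ g, ∀ x ∈ T, ρ g x ∈ T), (∀ x ∈ T, E ρ ψ 1 x = 0) → T = ⊥ := by
    intro T hT hz
    rw [Submodule.eq_bot_iff]
    intro x hx
    refine hfix x fun g => ?_
    have hval : ∀ y : ↥T, ((E (res ρ T hT) ψ 1 y : ↥T) : V) = E ρ ψ 1 y.1 := fun y => by
      simp only [E, LinearMap.smul_apply, LinearMap.sum_apply, Submodule.coe_smul, Submodule.coe_sum,
        res_apply]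
    have h0 : mult (res ρ T hT) ψ 1 = 0 := by
      rw [mult, Submodule.finrank_eq_zero, LinearMap.range_eq_bot]
      exact LinearMap.ext fun y => Subtype.ext ((hval y).trans (hz y.1 y.2))
    have h2 := LinearMap.congr_fun (trivial_of_mult (res ρ T hT) hk hψ h0 g) ⟨x, hx⟩
    exact congrArg Subtype.val h2
  by_cases hz : ∀ x ∈ S, E ρ ψ 1 x = 0
  · exact Or.inl (hkill S hS hz)
  push Not at hz
  obtain ⟨x, hx, hx0⟩ := hz
  refine Or.inr ?_
  have : S' = ⊥ := hkill S' hS' fun y hy => by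
    obtain ⟨v, hv0, hspan⟩ := finrank_eq_one_iff'.1 h1
    obtain ⟨a, ha⟩ := hspan ⟨_, LinearMap.mem_range_self (E ρ ψ 1) x⟩
    obtain ⟨c, hc⟩ := hspan ⟨_, LinearMap.mem_range_self (E ρ ψ 1) y⟩
    have ha' : a • v.1 = E ρ ψ 1 x := congrArg Subtype.val ha
    have hc' : c • v.1 = E ρ ψ 1 y := congrArg Subtype.val hc
    have ha0 : a ≠ 0 := fun h => hx0 (by rw [← ha', h, zero_smul])
    have hmem : E ρ ψ 1 y ∈ S ⊓ S' := by
      refine ⟨?_, hE S' hS' y hy⟩
      rw [← hc', show c • v.1 = (c / a) • E ρ ψ 1 x by rw [← ha', smul_smul, div_mul_cancel₀ _ ha0]]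
      exact S.smul_mem _ (hE S hS x hx)
    rwa [hi, Submodule.mem_bot] at hmem
  rwa [this, sup_bot_eq] at hsup

theorem mult_sub {j : ℕ} (ρ : Representation ℂ (Matrix.SpecialLinearGroup (Fin (j + 1 + 1)) F) V) (hj : 2 ≤ j)
    {ψ : AddChar F ℂ} (hψ : ψ ≠ 1) (hg : Good (j + 1) (Fintype.card F)) (h1 : mult ρ ψ 1 = 1) :
    mult (sub ρ ψ) ψ 1 = 1 := by
  have hone : (1 : Fin j → F) ≠ 0 := fun h => one_ne_zero (congrFun h ⟨0, by omega⟩)
  obtain ⟨u, hu⟩ := isConj_iff.1 (tv_isConj (F := F) hj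
    (g := tt (k := j + 1) (by omega) (1 : F)) (a := Pi.single ⟨1, by omega⟩ 1)
    (φ := Pi.single ⟨0, by omega⟩ 1) (Pi.single_ne_zero_iff.2 one_ne_zero) (Pi.single_ne_zero_iff.2 one_ne_zero)
    (by rw [single_dotProduct, one_mul, Pi.single_eq_of_ne (by simp [Fin.ext_iff])]) rfl hone)
  have hchar : (sub ρ ψ).character (qv 1) = (mult ρ ψ 0 : ℂ) - (Fintype.card F : ℂ) ^ j := by
    rw [← hu, (sub ρ ψ).char_conj, char_sub_tt ρ (by omega) hg hψ h1 one_ne_zero, Nat.add_sub_cancel]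
  have h2 := mult_formula (sub ρ ψ) hj hψ (1 : Fin j → F)
  rw [if_neg hone, add_zero, hchar] at h2
  have h3 : (Module.finrank ℂ (LinearMap.range (E ρ ψ 0)) : ℂ) = (mult ρ ψ 0 : ℂ) := rfl
  rw [h3] at h2
  have h4 : (mult (sub ρ ψ) ψ 1 : ℂ) = 1 := mul_right_cancel₀ qk_ne (by rw [h2, one_mul]; ring)
  exact_mod_cast h4

theorem sub_nontrivial (ρ : Representation ℂ (Matrix.SpecialLinearGroup (Fin (k + 1)) F) V) (hk : 2 ≤ k)
    {ψ : AddChar F ℂ} (hψ : ψ ≠ 1) (hg : Good k (Fintype.card F)) (h1 : mult ρ ψ 1 = 1) :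
    ∃ a, sub ρ ψ a ≠ 1 := by
  refine ⟨tt hk 1, fun h => ?_⟩
  have h2 := char_sub_tt ρ hk hg hψ h1 (one_ne_zero (α := F))
  rw [Representation.character, h, LinearMap.trace_one] at h2
  have h3 : (Module.finrank ℂ (LinearMap.range (E ρ ψ 0)) : ℂ) = (mult ρ ψ 0 : ℂ) := rfl
  rw [h3] at h2
  exact pow_ne_zero (k - 1) (Nat.cast_ne_zero.2 (Fintype.card_ne_zero (α := F)) : (Fintype.card F : ℂ) ≠ 0)
    (by linear_combination h2)

/-- A vector fixed by the point stabiliser of a vector gives the bound. -/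
theorem sub_fixed_bound (ρ : Representation ℂ (Matrix.SpecialLinearGroup (Fin (k + 1)) F) V) (hk : 2 ≤ k)
    [Nontrivial V] (hirr : ∀ S : Submodule ℂ V, (∀ g, ∀ x ∈ S, ρ g x ∈ S) → S = ⊥ ∨ S = ⊤)
    (hne : ∃ g, ρ g ≠ 1) {ψ : AddChar F ℂ}
    (h : ¬ ∀ v : ↥(LinearMap.range (E ρ ψ 0)), (∀ a, sub ρ ψ a v = v) → v = 0) :
    qi (Fintype.card F) (k + 1) - 1 ≤ Module.finrank ℂ V := by
  push Not at h
  obtain ⟨v, hv, hv0⟩ := h
  exact fixed_bound ρ hk hirr hne (fun h0 => hv0 (Subtype.ext h0)) (fun r B hB => P_fixed ρ hv r B hB)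

theorem one_le_qi {q n : ℕ} (hn : 1 ≤ n) : 1 ≤ qi q n := by
  obtain ⟨m, rfl⟩ : ∃ m, n = m + 1 := ⟨n - 1, by omega⟩
  rw [qi_succ]
  omega

theorem qi_bound (q k : ℕ) (hq : 1 ≤ q) : qi q (k + 1) - 1 = qi q k + (q ^ k - 1) := by
  rw [qi_succ, Nat.add_sub_cancel, ← qi_mul q k hq]
  obtain ⟨p, rfl⟩ : ∃ p, q = p + 1 := ⟨q - 1, by omega⟩
  rw [Nat.add_sub_cancel]
  ring

theorem no_div {D q c k A : ℕ} (h1 : D + 1 = q * c) (h : D ∣ (D + 2) * A * q ^ k) : D ∣ 2 * A := by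
  have hcop : Nat.Coprime D q := by
    refine Nat.coprime_of_dvd' fun r _ hr1 hr2 => ?_
    have h3 : r ∣ q * c := hr2.mul_right _
    rw [← h1] at h3
    exact (Nat.dvd_add_right hr1).1 h3
  have h2 : D ∣ D * A + 2 * A := by
    rw [← add_mul]
    exact (Nat.Coprime.dvd_mul_right (hcop.pow_right _)).1 h
  exact (Nat.dvd_add_right (Dvd.intro _ rfl)).1 h2

/-- Each nontrivial irreducible representation has degree at least `q + ⋯ + q ^ k`. -/
theorem bound_irr : ∀ (k : ℕ), 2 ≤ k → ¬ Exc k (Fintype.card F) →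
    ∀ (V : Type) [AddCommGroup V] [Module ℂ V] [FiniteDimensional ℂ V] [Nontrivial V]
      (ρ : Representation ℂ (Matrix.SpecialLinearGroup (Fin (k + 1)) F) V),
      (∀ S : Submodule ℂ V, (∀ g, ∀ x ∈ S, ρ g x ∈ S) → S = ⊥ ∨ S = ⊤) → (∃ g, ρ g ≠ 1) →
      qi (Fintype.card F) (k + 1) - 1 ≤ Module.finrank ℂ V := by
  intro k
  induction k using Nat.strong_induction_on with
  | _ k ih =>
  intro hk hexc V _ _ _ _ ρ hirr hne
  obtain ⟨q, hq⟩ : ∃ q, q = Fintype.card F := ⟨_, rfl⟩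
  have hq2 : 2 ≤ q := hq ▸ Fintype.one_lt_card (α := F)
  have hgood : Good k (Fintype.card F) := good_of_not_exc hk (hq ▸ hq2) hexc
  have h1F : (1 : F) ≠ 0 := one_ne_zero
  obtain ⟨ψ, hψ0⟩ := AddChar.exists_apply_ne_zero.2 h1F
  have hψ : ψ ≠ 1 := fun h => hψ0 (by rw [h]; exact AddChar.one_apply _)
  have hD := finrank_eq ρ hk hψ
  have hqi := qi_bound q k (by omega)
  obtain ⟨m, hm⟩ : ∃ m, m = mult ρ ψ 1 := ⟨_, rfl⟩
  rw [← hm, ← hq] at hD
  rw [← hq, hqi]
  have hm0 : m ≠ 0 := fun h0 => by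
    obtain ⟨g, hg⟩ := hne
    exact hg (trivial_of_mult ρ hk hψ (hm ▸ h0) g)
  have hqik : qi q k ≤ q ^ k - 1 := by
    rw [← qi_mul q k (by omega)]
    exact Nat.le_mul_of_pos_right _ (by omega)
  by_cases hm2 : 2 ≤ m
  · have : (q ^ k - 1) * 2 ≤ (q ^ k - 1) * m := Nat.mul_le_mul_left _ hm2
    omega
  have hm1 : mult ρ ψ 1 = 1 := by omega
  rw [show m = 1 by omega, mul_one] at hD
  obtain ⟨f, hf⟩ : ∃ f, f = mult ρ ψ 0 := ⟨_, rfl⟩
  rw [← hf] at hD
  suffices hfk : qi q k ≤ f by omega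
  by_contra hlt
  rw [not_le] at hlt
  have hdvd := degree_dvd ρ hk hψ hirr hm1
  rw [hD, ← hq] at hdvd
  have hfix : ∀ v : ↥(LinearMap.range (E ρ ψ 0)), (∀ a, sub ρ ψ a v = v) → v = 0 := by
    by_contra h
    have := sub_fixed_bound ρ hk hirr hne h
    rw [← hq, hqi, hD] at this
    omega
  rcases eq_or_lt_of_le hk with rfl | hk3
  · -- degree three
    have hf1 := card_le_mult ρ hgood hψ hm1
    rw [← hq, ← hf] at hf1
    have hqi2 : qi q 2 = q + 1 := by simp [qi, Finset.sum_range_succ]; ring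
    have hqi3 : qi q (2 + 1) = q ^ 2 + q + 1 := by simp [qi, Finset.sum_range_succ]; ring
    rw [hqi3] at hdvd
    obtain ⟨p, hp⟩ : ∃ p, q = p + 2 := ⟨q - 2, by omega⟩
    have hp2 : q ^ 2 - 1 = (p + 1) * (p + 3) := by
      rw [hp, Nat.sub_eq_iff_eq_add (Nat.one_le_pow _ _ (by omega))]; ring
    rw [hp2] at hdvd
    rcases (show f = q - 1 ∨ f = q by omega) with he | he
    · have h2 : (p + 4) * (p + 1) ∣
          ((p + 2) ^ 2 + (p + 2) + 1) * (p + 3) * (p + 2) ^ 2 * (p + 1) := by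
        have e1 : f + (p + 1) * (p + 3) = (p + 4) * (p + 1) := by
          rw [he, hp, show p + 2 - 1 = p + 1 by omega]; ring
        rw [e1, hp] at hdvd
        refine hdvd.trans (dvd_of_eq ?_)
        ring
      have h3 : p + 4 ∣ ((p + 2) ^ 2 + (p + 2) + 1) * (p + 3) * (p + 2) ^ 2 :=
        Nat.dvd_of_mul_dvd_mul_right (Nat.succ_pos p) h2
      have h12 : ((p : ℤ) + 4) ∣ 12 := by
        have h4 : ((p + 4 : ℕ) : ℤ) ∣
            ((((p + 2) ^ 2 + (p + 2) + 1) * (p + 3) * (p + 2) ^ 2 : ℕ) : ℤ) := Int.natCast_dvd_natCast.2 h3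
        push_cast at h4
        obtain ⟨x, hx⟩ : ∃ x : ℤ, x = (p : ℤ) + 4 := ⟨_, rfl⟩
        rw [← hx]
        rw [← hx] at h4
        obtain ⟨c, hc⟩ := h4
        refine ⟨x ^ 4 - 8 * x ^ 3 + 26 * x ^ 2 - 43 * x + 36 - c, ?_⟩
        have hp' : (p : ℤ) = x - 4 := by rw [hx]; ring
        rw [hp'] at hc
        linear_combination (-1 : ℤ) * hc
      have h12' : p + 4 ∣ 12 := by exact_mod_cast h12
      have := Nat.le_of_dvd (by norm_num) h12'
      have hpp : IsPrimePow q := hq ▸ FiniteField.isPrimePow_card F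
      have hne2 : q ≠ 2 ∧ q ≠ 4 := by unfold Exc at hexc; omega
      have hp8 : p ≤ 8 := by omega
      have h10 : ¬ IsPrimePow 10 := by rw [isPrimePow_nat_iff_bounded]; decide
      interval_cases p <;> first | omega | (subst hp; exact h10 hpp)
    · have h2 : f + (p + 1) * (p + 3) ∣ 2 * ((p + 1) * (p + 3)) := by
        refine no_div (q := q) (c := q + 1) (k := 2) ?_ ?_
        · rw [he, hp]; ring
        · refine hdvd.trans (dvd_of_eq ?_)
          rw [he, hp]; ring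
      obtain ⟨c, hc⟩ := h2
      have hpos : p + 1 ≤ (p + 1) * (p + 3) := Nat.le_mul_of_pos_right _ (by omega)
      rcases (show c = 0 ∨ c = 1 ∨ 2 ≤ c by omega) with hc' | hc' | hc'
      · subst hc'; omega
      · subst hc'
        have : p + 3 ≤ (p + 1) * (p + 3) := Nat.le_mul_of_pos_left _ (by omega)
        have : (p + 1) * (p + 3) = p + 2 := by omega
        omega
      · have : (f + (p + 1) * (p + 3)) * 2 ≤ (f + (p + 1) * (p + 3)) * c := Nat.mul_le_mul_left _ hc'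
        omega
  · -- degree at least four
    obtain ⟨j, rfl⟩ : ∃ j, k = j + 1 := ⟨k - 1, by omega⟩
    have hj : 2 ≤ j := by omega
    have hf0 : f ≠ 0 := by
      intro h0
      obtain ⟨a, ha⟩ := sub_nontrivial ρ hk hψ hgood hm1
      have : Subsingleton ↥(LinearMap.range (E ρ ψ 0)) := Module.finrank_zero_iff.1 (hf.symm.trans h0)
      exact ha (LinearMap.ext fun x => Subsingleton.elim _ _)
    have hfin : Module.finrank ℂ ↥(LinearMap.range (E ρ ψ 0)) = f := hf.symm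
    by_cases hexj : Exc j (Fintype.card F)
    · -- exceptional predecessor
      have hnt : Nontrivial ↥(LinearMap.range (E ρ ψ 0)) :=
        Module.nontrivial_of_finrank_pos (R := ℂ) (by omega)
      have hm' := mult_sub ρ hj hψ hgood hm1
      have hirr' := irr_of_mult_one (sub ρ ψ) hj hψ hm' hfix
      have hdvd' := degree_dvd (sub ρ ψ) hj hψ hirr' hm'
      rw [hfin, ← hq] at hdvd'
      have hD' := finrank_eq (sub ρ ψ) hj hψ
      rw [hm', hfin, ← hq, mul_one] at hD'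
      have hexc' : ¬ Exc (j + 1) q := hq ▸ hexc
      rw [← hq] at hexj
      unfold Exc at hexj hexc'
      rcases (show (j = 2 ∧ q = 4) ∨ (j = 3 ∧ q = 2) ∨ (j = 3 ∧ q = 3) by omega) with
        ⟨rfl, rfl⟩ | ⟨rfl, rfl⟩ | ⟨rfl, rfl⟩
      · norm_num [qi, Finset.sum_range_succ] at hlt hdvd hdvd' hD'
        have hf15 : 15 ≤ f := by omega
        interval_cases f <;> (revert hdvd hdvd'; norm_num)
      · norm_num [qi, Finset.sum_range_succ] at hlt hdvd hdvd' hD'
        have hf7 : 7 ≤ f := by omega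
        interval_cases f <;> (revert hdvd hdvd'; norm_num)
      · norm_num [qi, Finset.sum_range_succ] at hlt hdvd hdvd' hD'
        have hf26 : 26 ≤ f := by omega
        interval_cases f <;> (revert hdvd hdvd'; norm_num)
        -- the single case left
        have hfix' : ∀ v : ↥(LinearMap.range (E (sub ρ ψ) ψ 0)),
            (∀ a, sub (sub ρ ψ) ψ a v = v) → v = 0 := by
          by_contra h
          have hne' := sub_nontrivial ρ hk hψ hgood hm1
          have := sub_fixed_bound (sub ρ ψ) hj hirr' hne' h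
          rw [hfin, ← hq] at this
          norm_num [qi, Finset.sum_range_succ] at this
        have hf4 : mult (sub ρ ψ) ψ 0 = 4 := by omega
        by_cases hne2 : ∃ a, sub (sub ρ ψ) ψ a ≠ 1
        · have h := reduce (G := Matrix.SpecialLinearGroup (Fin (2 + 1)) F)
            (fun W => ih 2 (by omega) le_rfl (by rw [← hq]; unfold Exc; omega) W) _
            (sub (sub ρ ψ) ψ) hne2
          rw [show Module.finrank ℂ ↥(LinearMap.range (E (sub ρ ψ) ψ 0)) = 4 from hf4, ← hq] at h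
          norm_num [qi, Finset.sum_range_succ] at h
        · push Not at hne2
          have : Subsingleton ↥(LinearMap.range (E (sub ρ ψ) ψ 0)) := ⟨fun x y => by
            rw [hfix' x fun a => by rw [hne2]; rfl, hfix' y fun a => by rw [hne2]; rfl]⟩
          have := Module.finrank_zero_iff (R := ℂ) |>.2 this
          rw [show Module.finrank ℂ ↥(LinearMap.range (E (sub ρ ψ) ψ 0)) = 4 from hf4] at this
          omega
    · -- regular step
      have hb := reduce (G := Matrix.SpecialLinearGroup (Fin (j + 1)) F)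
        (fun W => ih j (by omega) hj hexj W) _ (sub ρ ψ) (sub_nontrivial ρ hk hψ hgood hm1)
      rw [hfin, ← hq] at hb
      have hfe : f + 1 = qi q (j + 1) := by omega
      obtain ⟨D, hDe⟩ : ∃ D, D = f + (q ^ (j + 1) - 1) := ⟨_, rfl⟩
      rw [← hDe] at hdvd
      have hn2 : qi q (j + 1 + 1) = D + 2 := by
        have := one_le_qi (q := q) (show 1 ≤ j + 1 + 1 by omega)
        omega
      rw [hn2] at hdvd
      have h4 : D ∣ 2 * (q ^ (j + 1) - 1) := by
        refine no_div (q := q) (c := qi q (j + 1)) (k := j + 1) ?_ hdvd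
        have h := qi_succ q (j + 1)
        omega
      obtain ⟨c, hc⟩ := h4
      rcases (show c = 0 ∨ c = 1 ∨ 2 ≤ c by omega) with hc' | hc' | hc'
      · subst hc'; omega
      · subst hc'; omega
      · have : D * 2 ≤ D * c := Nat.mul_le_mul_left _ hc'
        omega

/-- Each nontrivial representation has degree at least `q + ⋯ + q ^ k`. -/
theorem bound (hk : 2 ≤ k) (hexc : ¬ Exc k (Fintype.card F)) (V : Type) [AddCommGroup V] [Module ℂ V]
    [FiniteDimensional ℂ V] (ρ : Representation ℂ (Matrix.SpecialLinearGroup (Fin (k + 1)) F) V)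
    (hne : ∃ g, ρ g ≠ 1) : qi (Fintype.card F) (k + 1) - 1 ≤ Module.finrank ℂ V :=
  reduce (fun W => bound_irr k hk hexc W) V ρ hne

end Cfsg.Agent.Small.MinDeg
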