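import Mathlib
import Cfsg.Agent.Lib.Classical.LinBasic
import Cfsg.Agent.Lib.Small.Generation.ThreeUnipotent

/-!
Block coordinates `[[d, r], [0, B]]` on `SL_{k+1}`: the parabolic subgroup of a point, its unipotent radical,
and the conjugacy class of transvections.
-/

set_option autoImplicit false

namespace Cfsg.Agent.Small.MinDeg

open Matrix Cfsg.Agent.Small.Generation

variable {F : Type*} [Field F] {k : ℕ}

/-- The matrix `[[d, r], [0, B]]`. -/
def mk (d : F) (r : Fin k → F) (B : Matrix (Fin k) (Fin k) F) :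
    Matrix (Fin (k + 1)) (Fin (k + 1)) F :=
  Matrix.of (Fin.cases (Fin.cons d r) (fun i => Fin.cons 0 (B i)))

theorem mk_zero_zero (d : F) (r : Fin k → F) (B : Matrix (Fin k) (Fin k) F) : mk d r B 0 0 = d := by
  simp [mk]

theorem mk_zero_succ (d : F) (r : Fin k → F) (B : Matrix (Fin k) (Fin k) F) (j : Fin k) :
    mk d r B 0 j.succ = r j := by simp [mk]

theorem mk_succ_zero (d : F) (r : Fin k → F) (B : Matrix (Fin k) (Fin k) F) (i : Fin k) :
    mk d r B i.succ 0 = 0 := by simp [mk]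

theorem mk_succ_succ (d : F) (r : Fin k → F) (B : Matrix (Fin k) (Fin k) F) (i j : Fin k) :
    mk d r B i.succ j.succ = B i j := by simp [mk]

theorem mk_mul (d d' : F) (r r' : Fin k → F) (B B' : Matrix (Fin k) (Fin k) F) :
    mk d r B * mk d' r' B' = mk (d * d') (d • r' + r ᵥ* B') (B * B') := by
  ext i j
  rw [Matrix.mul_apply, Fin.sum_univ_succ]
  induction i using Fin.cases with
  | zero =>
    induction j using Fin.cases with
    | zero => simp [mk_zero_zero, mk_succ_zero, mk_zero_succ]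
    | succ j => simp [mk_zero_zero, mk_succ_succ, mk_zero_succ, vecMul, dotProduct]
  | succ i =>
    induction j using Fin.cases with
    | zero => simp [mk_zero_zero, mk_succ_zero, mk_succ_succ]
    | succ j => simp [mk_succ_zero, mk_succ_succ, mk_zero_succ, Matrix.mul_apply]

theorem mk_one : mk (1 : F) (0 : Fin k → F) 1 = 1 := by
  ext i j
  induction i using Fin.cases with
  | zero =>
    induction j using Fin.cases with
    | zero => simp [mk_zero_zero]
    | succ j => simp [mk_zero_succ, (Fin.succ_ne_zero j).symm]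
  | succ i =>
    induction j using Fin.cases with
    | zero => simp [mk_succ_zero]
    | succ j => simp [mk_succ_succ, Matrix.one_apply]

theorem det_mk (d : F) (r : Fin k → F) (B : Matrix (Fin k) (Fin k) F) :
    (mk d r B).det = d * B.det := by
  rw [Matrix.det_succ_column_zero, Fin.sum_univ_succ,
    Finset.sum_eq_zero (fun i _ => by rw [mk_succ_zero, mul_zero, zero_mul]), add_zero, mk_zero_zero,
    Fin.val_zero, pow_zero, one_mul]
  congr 2

theorem mk_mulVec_e0 (d : F) (r : Fin k → F) (B : Matrix (Fin k) (Fin k) F) :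
    mk d r B *ᵥ Pi.single 0 1 = Pi.single 0 d := by
  ext i
  rw [Matrix.mulVec_single, MulOpposite.op_one, one_smul]
  induction i using Fin.cases with
  | zero => simp [Matrix.col, mk_zero_zero]
  | succ i => simp [Matrix.col, mk_succ_zero, Fin.succ_ne_zero i]

/-- The element `[[d, r], [0, B]]` of `SL_{k+1}`. -/
def pm (d : F) (r : Fin k → F) (B : Matrix (Fin k) (Fin k) F) (h : d * B.det = 1) :
    Matrix.SpecialLinearGroup (Fin (k + 1)) F :=
  ⟨mk d r B, by rw [det_mk, h]⟩

/-- The unipotent radical element with row `r`. -/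
def qv (r : Fin k → F) : Matrix.SpecialLinearGroup (Fin (k + 1)) F :=
  pm 1 r 1 (by rw [Matrix.det_one, mul_one])

theorem qv_val (r : Fin k → F) : (qv r).1 = mk 1 r 1 := rfl

theorem qv_add (r s : Fin k → F) : qv r * qv s = qv (r + s) := Subtype.ext (by
  rw [Matrix.SpecialLinearGroup.coe_mul, qv_val, qv_val, qv_val, mk_mul, one_mul, mul_one, one_smul,
    Matrix.vecMul_one, add_comm s r])

theorem qv_zero : qv (0 : Fin k → F) = 1 := Subtype.ext mk_one

/-- The Levi embedding of `SL_k`. -/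
def emb : Matrix.SpecialLinearGroup (Fin k) F →* Matrix.SpecialLinearGroup (Fin (k + 1)) F where
  toFun a := pm 1 0 a.1 (by rw [a.2, mul_one])
  map_one' := Subtype.ext mk_one
  map_mul' a b := Subtype.ext (by
    show mk 1 0 (a.1 * b.1) = mk 1 0 a.1 * mk 1 0 b.1
    rw [mk_mul, one_mul, smul_zero, Matrix.zero_vecMul, add_zero])

theorem emb_val (a : Matrix.SpecialLinearGroup (Fin k) F) : (emb a).1 = mk 1 0 a.1 := rfl

theorem pm_comm (d : F) (B : Matrix (Fin k) (Fin k) F) (h : d * B.det = 1) {r r' : Fin k → F}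
    (hr : r' ᵥ* B = d • r) : pm d 0 B h * qv r = qv r' * pm d 0 B h := Subtype.ext (by
  rw [Matrix.SpecialLinearGroup.coe_mul, Matrix.SpecialLinearGroup.coe_mul, qv_val, qv_val]
  show mk d 0 B * mk 1 r 1 = mk 1 r' 1 * mk d 0 B
  rw [mk_mul, mk_mul, mul_one, one_mul, mul_one, one_mul, Matrix.zero_vecMul, add_zero, smul_zero, zero_add,
    hr])

/-- The stabiliser of a point in coordinates. -/
theorem exists_pm {g : Matrix.SpecialLinearGroup (Fin (k + 1)) F} {d : F}
    (hg : g.1 *ᵥ Pi.single 0 1 = Pi.single 0 d) : ∃ r B, ∃ h : d * Matrix.det B = 1, g = pm d r B h := by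
  have hd : g.1 0 0 = d := by
    have := congrFun hg 0
    simpa [Matrix.mulVec_single, Matrix.col] using this
  have hz : ∀ i : Fin k, g.1 i.succ 0 = 0 := fun i => by
    have := congrFun hg i.succ
    simpa [Matrix.mulVec_single, Matrix.col, Fin.succ_ne_zero i] using this
  have he : g.1 = mk d (fun j => g.1 0 j.succ) (Matrix.of fun i j => g.1 i.succ j.succ) := by
    ext i j
    induction i using Fin.cases with
    | zero =>
      induction j using Fin.cases with
      | zero => rw [mk_zero_zero, hd]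
      | succ j => rw [mk_zero_succ]
    | succ i =>
      induction j using Fin.cases with
      | zero => rw [mk_succ_zero, hz]
      | succ j => rw [mk_succ_succ]; rfl
  exact ⟨_, _, by rw [← det_mk, ← he, g.2], Subtype.ext he⟩

/-- Every nonzero column is the first column of an element of `SL_n`. -/
theorem exists_mulVec_eq {n : ℕ} (hn : 2 ≤ n) {u v : Fin n → F} (hu : u ≠ 0) (hv : v ≠ 0) :
    ∃ g : Matrix.SpecialLinearGroup (Fin n) F, g.1 *ᵥ u = v := by
  have key : ∀ v : Fin n → F, v ≠ 0 → ∃ g : Matrix.SpecialLinearGroup (Fin n) F,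
      g.1 *ᵥ Pi.single (⟨0, by omega⟩ : Fin n) 1 = v := by
    intro v hv
    obtain ⟨i, hi⟩ := Function.ne_iff.1 hv
    let i0 : Fin n := ⟨0, by omega⟩
    let i1 : Fin n := ⟨1, by omega⟩
    have h01 : i1 ≠ i0 := by simp [i0, i1, Fin.ext_iff]
    -- reach a vector with nonzero second entry, then correct with transvections
    have hp : ∀ w : Fin n → F, w i1 ≠ 0 → ∃ g : Matrix.SpecialLinearGroup (Fin n) F,
        g.1 *ᵥ Pi.single i0 1 = w := by
      intro w hw
      let φ : Fin n → F := Pi.single i1 1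
      let a : Fin n → F := (w i1)⁻¹ • (w - Pi.single i0 1 - w i1 • Pi.single i1 1)
      have ha : φ ⬝ᵥ a = 0 := by
        simp [φ, a, dotProduct_smul, h01]
      have hψ : (Pi.single i0 1 : Fin n → F) ⬝ᵥ (w i1 • Pi.single i1 1) = 0 := by simp [h01.symm]
      refine ⟨tE a φ ha * tE (w i1 • Pi.single i1 1) (Pi.single i0 1) hψ, ?_⟩
      rw [Matrix.SpecialLinearGroup.coe_mul, ← Matrix.mulVec_mulVec]
      show tv a φ *ᵥ (tv _ _ *ᵥ _) = w
      rw [tv_mulVec, tv_mulVec]
      simp [φ, a, h01, hw]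
    by_cases h1 : i = i1
    · exact hp v (h1 ▸ hi)
    · by_cases h2 : v i1 = 0
      · -- add row `i` to row `i1`
        have hψ : (Pi.single i 1 : Fin n → F) ⬝ᵥ (Pi.single i1 1) = 0 := by simp [h1]
        obtain ⟨g, hg⟩ := hp (v + v i • Pi.single i1 1) (by simp [h2]; simpa using hi)
        refine ⟨(tE (Pi.single i1 1) (Pi.single i 1) hψ)⁻¹ * g, ?_⟩
        have hT : (tE (Pi.single i1 1) (Pi.single i 1) hψ).1 *ᵥ v = v + v i • Pi.single i1 1 := by
          show tv _ _ *ᵥ v = _
          rw [tv_mulVec]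
          simp
        rw [Matrix.SpecialLinearGroup.coe_mul, ← Matrix.mulVec_mulVec, hg, ← hT, Matrix.mulVec_mulVec,
          ← Matrix.SpecialLinearGroup.coe_mul, inv_mul_cancel, Matrix.SpecialLinearGroup.coe_one,
          Matrix.one_mulVec]
      · exact hp v h2
  obtain ⟨g, hg⟩ := key u hu
  obtain ⟨h, hh⟩ := key v hv
  refine ⟨h * g⁻¹, ?_⟩
  rw [Matrix.SpecialLinearGroup.coe_mul, ← Matrix.mulVec_mulVec, ← hg, Matrix.mulVec_mulVec _ (g⁻¹).1,
    ← Matrix.SpecialLinearGroup.coe_mul, inv_mul_cancel, Matrix.SpecialLinearGroup.coe_one, Matrix.one_mulVec,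
    hh]

theorem exists_vecMul_eq {n : ℕ} (hn : 2 ≤ n) {u v : Fin n → F} (hu : u ≠ 0) (hv : v ≠ 0) :
    ∃ g : Matrix.SpecialLinearGroup (Fin n) F, u ᵥ* g.1 = v := by
  obtain ⟨g, hg⟩ := exists_mulVec_eq hn hu hv
  refine ⟨⟨g.1.transpose, by rw [Matrix.det_transpose, g.2]⟩, ?_⟩
  rw [Matrix.vecMul_transpose, hg]

theorem qv_isConj (hk : 2 ≤ k) {r r' : Fin k → F} (hr : r ≠ 0) (hr' : r' ≠ 0) :
    IsConj (qv r) (qv r') := by
  obtain ⟨a, ha⟩ := exists_vecMul_eq hk hr' hr
  refine isConj_iff.2 ⟨emb a, mul_inv_eq_iff_eq_mul.2 (pm_comm 1 a.1 (by rw [a.2, mul_one]) ?_)⟩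
  rw [one_smul, ha]

theorem qv_eq_one_add (r : Fin k → F) :
    (qv r).1 = 1 + Matrix.vecMulVec (Pi.single 0 1) (Fin.cons 0 r) := by
  ext i j
  rw [qv_val]
  induction i using Fin.cases with
  | zero =>
    induction j using Fin.cases with
    | zero => simp [mk_zero_zero, vecMulVec_apply]
    | succ j => simp [mk_zero_succ, vecMulVec_apply, (Fin.succ_ne_zero j).symm]
  | succ i =>
    induction j using Fin.cases with
    | zero => simp [mk_succ_zero, vecMulVec_apply, Fin.succ_ne_zero i]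
    | succ j => simp [mk_succ_succ, vecMulVec_apply, Matrix.one_apply, Fin.succ_ne_zero i]

/-- All transvections of `SL_{k+1}` are conjugate for `k ≥ 2`. -/
theorem tv_isConj (hk : 2 ≤ k) {g : Matrix.SpecialLinearGroup (Fin (k + 1)) F}
    {a φ : Fin (k + 1) → F} (ha : a ≠ 0) (hφ : φ ≠ 0) (h : φ ⬝ᵥ a = 0) (hg : g.1 = tv a φ)
    {r : Fin k → F} (hr : r ≠ 0) : IsConj g (qv r) := by
  obtain ⟨g1, hg1⟩ := exists_mulVec_eq (show 2 ≤ k + 1 by omega)
    (u := Pi.single 0 1) (Pi.single_ne_zero_iff.2 one_ne_zero) ha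
  obtain ⟨ψ, hψ⟩ : ∃ ψ, ψ = φ ᵥ* g1.1 := ⟨_, rfl⟩
  have h0 : ψ 0 = 0 := by
    rw [← h, ← hg1, Matrix.dotProduct_mulVec, ← hψ, dotProduct_single, mul_one]
  have hψ0 : (fun j : Fin k => ψ j.succ) ≠ 0 := by
    intro hz
    apply hφ
    have : ψ = 0 := funext fun j => Fin.cases h0 (fun j => congrFun hz j) j
    rw [hψ] at this
    have h2 := congrArg (fun x => x ᵥ* (g1⁻¹).1) this
    simp only [Matrix.vecMul_vecMul, Matrix.zero_vecMul] at h2
    rwa [← Matrix.SpecialLinearGroup.coe_mul, mul_inv_cancel, Matrix.SpecialLinearGroup.coe_one,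
      Matrix.vecMul_one] at h2
  have hconj : IsConj g (qv fun j => ψ j.succ) := by
    refine (isConj_iff.2 ⟨g1, mul_inv_eq_iff_eq_mul.2 (Subtype.ext ?_)⟩).symm
    rw [Matrix.SpecialLinearGroup.coe_mul, Matrix.SpecialLinearGroup.coe_mul, hg, qv_eq_one_add, tv,
      mul_add, add_mul, mul_one, one_mul, Matrix.mul_vecMulVec, Matrix.vecMulVec_mul, hg1, ← hψ]
    congr 2
    rw [← h0]
    exact Fin.cons_self_tail ψ
  exact hconj.trans (qv_isConj hk hψ0 hr)

theorem emb_tE (a φ : Fin k → F) (h : φ ⬝ᵥ a = 0) :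
    (emb (tE a φ h)).1 = tv (Fin.cons 0 a) (Fin.cons 0 φ) := by
  rw [emb_val]
  show mk 1 0 (tv a φ) = _
  ext i j
  simp only [tv, Matrix.add_apply, vecMulVec_apply]
  induction i using Fin.cases with
  | zero =>
    induction j using Fin.cases with
    | zero => simp [mk_zero_zero]
    | succ j => simp [mk_zero_succ, (Fin.succ_ne_zero j).symm]
  | succ i =>
    induction j using Fin.cases with
    | zero => simp [mk_succ_zero]
    | succ j => simp [mk_succ_succ, vecMulVec_apply, Matrix.one_apply]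

theorem emb_tE_isConj (hk : 2 ≤ k) {a φ : Fin k → F} (ha : a ≠ 0) (hφ : φ ≠ 0) (h : φ ⬝ᵥ a = 0)
    {r : Fin k → F} (hr : r ≠ 0) : IsConj (emb (tE a φ h)) (qv r) := by
  refine tv_isConj hk ?_ ?_ ?_ (emb_tE a φ h) hr
  · exact fun h0 => ha (funext fun j => by simpa using congrFun h0 j.succ)
  · exact fun h0 => hφ (funext fun j => by simpa using congrFun h0 j.succ)
  · rw [dotProduct, Fin.sum_univ_succ]
    simpa [dotProduct] using h

/-- The transvections generate. -/
theorem eq_top_of_qv (hk : 2 ≤ k) (N : Subgroup (Matrix.SpecialLinearGroup (Fin (k + 1)) F)) [N.Normal]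
    {r : Fin k → F} (hr : r ≠ 0) (h : qv r ∈ N) : N = ⊤ := by
  have : Nontrivial (Fin (k + 1)) := Fin.nontrivial_iff_two_le.mpr (by omega)
  rw [eq_top_iff, ← Cfsg.Agent.Classical.sl_closure_transvections, Subgroup.closure_le]
  rintro g ⟨i, j, hij, c, rfl⟩
  by_cases hc : c = 0
  · subst hc
    have : Matrix.SpecialLinearGroup.transvection hij (0 : F) = 1 := Subtype.ext (Matrix.transvection_zero i j)
    rw [this]
    exact one_mem N
  have hconj : IsConj (Matrix.SpecialLinearGroup.transvection hij c) (qv r) := by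
    refine tv_isConj hk (a := Pi.single i c) (φ := Pi.single j 1) ?_ ?_ ?_ ?_ hr
    · exact Pi.single_ne_zero_iff.2 hc
    · exact Pi.single_ne_zero_iff.2 one_ne_zero
    · simp [hij.symm]
    · ext a b
      show Matrix.transvection i j c a b = _
      simp only [Matrix.transvection, tv, Matrix.add_apply, vecMulVec_apply, Matrix.single_apply,
        Pi.single_apply]
      congr 1
      by_cases hai : i = a <;> by_cases hbj : j = b <;> simp [hai, hbj, eq_comm]
  obtain ⟨u, hu⟩ := isConj_iff.1 hconj.symm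
  rw [SetLike.mem_coe, ← hu]
  exact Subgroup.Normal.conj_mem ‹_› _ h u

end Cfsg.Agent.Small.MinDeg
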