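import Cfsg.Agent.Lib.Small.SLnMinDeg.Mult

/-!
If the multiplicities of the nontrivial translation characters are one, then a transvection of the Levi factor
fixes the corresponding lines, so the fixed space of the translations is again of that kind.
-/

set_option autoImplicit false
set_option linter.unusedSectionVars false

namespace Cfsg.Agent.Small.MinDeg

open Matrix Finset Cfsg.Agent.Small.Generation

variable {F : Type*} [Field F] [Fintype F] [DecidableEq F] {k : ℕ}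

/-- The pairs `(k, q)` for which the descent works. -/
def Good (k q : ℕ) : Prop := 4 ≤ k ∨ (k = 3 ∧ 3 < q) ∨ (k = 2 ∧ q ≠ 2 ∧ q ≠ 4)

/-- The transvection with entry `s` in position `(1, 0)` of `SL_k`. -/
def tt (hk : 2 ≤ k) (s : F) : Matrix.SpecialLinearGroup (Fin k) F :=
  tE (Pi.single ⟨1, by omega⟩ s) (Pi.single ⟨0, by omega⟩ 1)
    (by rw [single_dotProduct, one_mul, Pi.single_eq_of_ne (by simp [Fin.ext_iff])])

theorem tt_add (hk : 2 ≤ k) (s t : F) : tt hk s * tt hk t = tt hk (s + t) := Subtype.ext (by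
  show tv _ _ * tv _ _ = tv _ _
  rw [tv_add_left _ _ _ (by rw [single_dotProduct, one_mul, Pi.single_eq_of_ne (by simp [Fin.ext_iff])]),
    Pi.single_add])

theorem tt_zero (hk : 2 ≤ k) : tt hk (0 : F) = 1 := Subtype.ext (by
  show tv _ _ = 1
  simp [tv])

theorem tt_mulVec (hk : 2 ≤ k) (s : F) (c : Fin k → F) :
    (tt hk s).1 *ᵥ c = c + c ⟨0, by omega⟩ • Pi.single ⟨1, by omega⟩ s := by
  show tv _ _ *ᵥ c = _
  rw [tv_mulVec, single_dotProduct, one_mul]

theorem exists_pair {c : Fin k → F} (hk : 3 ≤ k) (hc : 4 ≤ k ∨ c ⟨2, by omega⟩ = 0) :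
    ∃ φ w : Fin k → F, φ ⬝ᵥ c = 0 ∧ φ ⬝ᵥ w = 1 ∧ φ ⟨1, by omega⟩ = 0 ∧ φ ⟨0, by omega⟩ = 0 ∧
      w ⟨0, by omega⟩ = 0 ∧ w ⟨1, by omega⟩ = 0 := by
  obtain ⟨i0, hi0⟩ : ∃ i : Fin k, i = ⟨0, by omega⟩ := ⟨_, rfl⟩
  obtain ⟨i1, hi1⟩ : ∃ i : Fin k, i = ⟨1, by omega⟩ := ⟨_, rfl⟩
  obtain ⟨i2, hi2⟩ : ∃ i : Fin k, i = ⟨2, by omega⟩ := ⟨_, rfl⟩
  rw [← hi0, ← hi1]
  rw [← hi2] at hc
  have h02 : i0 ≠ i2 := by simp [hi0, hi2, Fin.ext_iff]
  have h12 : i1 ≠ i2 := by simp [hi1, hi2, Fin.ext_iff]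
  by_cases h2 : c i2 = 0
  · exact ⟨Pi.single i2 1, Pi.single i2 1, by simp [h2], by simp, by simp [h12], by simp [h02],
      by simp [h02], by simp [h12]⟩
  obtain ⟨h4⟩ : Nonempty (4 ≤ k) := ⟨hc.resolve_right h2⟩
  obtain ⟨i3, hi3⟩ : ∃ i : Fin k, i = ⟨3, by omega⟩ := ⟨_, rfl⟩
  have h03 : i0 ≠ i3 := by simp [hi0, hi3, Fin.ext_iff]
  have h13 : i1 ≠ i3 := by simp [hi1, hi3, Fin.ext_iff]
  have h23 : i2 ≠ i3 := by simp [hi2, hi3, Fin.ext_iff]
  refine ⟨Pi.single i3 1 + (-(c i3) / c i2) • Pi.single i2 1, Pi.single i3 1, ?_, ?_, ?_, ?_, ?_, ?_⟩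
  · rw [add_dotProduct, smul_dotProduct, single_dotProduct, single_dotProduct, one_mul, one_mul, smul_eq_mul,
      div_mul_cancel₀ _ h2, add_neg_cancel]
  · simp [h23]
  · simp [h12, h13]
  · simp [h02, h03]
  · simp [h03]
  · simp [h13]

theorem exists_sq_ne_one (hq : 3 < Fintype.card F) : ∃ d : F, d ≠ 0 ∧ d ^ 2 ≠ 1 := by
  by_contra! h
  have hsub : (Finset.univ : Finset F) ⊆ {0, 1, -1} := fun d _ => by
    by_cases hd : d = 0
    · simp [hd]
    · rcases sq_eq_one_iff.1 (h d hd) with e | e <;> simp [e]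
  have := (Finset.card_le_card hsub).trans Finset.card_le_three
  rw [Finset.card_univ] at this
  omega

theorem exists_cube_ne_one (h2 : Fintype.card F ≠ 2) (h4 : Fintype.card F ≠ 4) :
    ∃ d : F, d ≠ 0 ∧ d ^ 3 ≠ 1 := by
  by_contra! h
  obtain ⟨g, hg⟩ := IsCyclic.exists_generator (α := Fˣ)
  have ho := orderOf_eq_card_of_forall_mem_zpowers hg
  have h3 : orderOf g ∣ 3 := orderOf_dvd_of_pow_eq_one (Units.ext (by simpa using h g g.ne_zero))
  rw [ho, Nat.card_eq_fintype_card, Fintype.card_units] at h3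
  have := Fintype.one_lt_card (α := F)
  rcases (Nat.dvd_prime Nat.prime_three).1 h3 with e | e <;> omega

variable {V : Type*} [AddCommGroup V] [Module ℂ V] [FiniteDimensional ℂ V]
variable (ρ : Representation ℂ (Matrix.SpecialLinearGroup (Fin (k + 1)) F) V) {ψ : AddChar F ℂ}

theorem emb_commute {a : Matrix.SpecialLinearGroup (Fin k) F} {c : Fin k → F} (h : a.1 *ᵥ c = c) :
    Commute (ρ (emb a)) (E ρ ψ c) := by
  have := emb_comm ρ (ψ := ψ) a c
  rwa [h] at this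

theorem tt_fix (hk : 2 ≤ k) (hg : Good k (Fintype.card F)) (hψ : ψ ≠ 1) {c : Fin k → F}
    (h1 : mult ρ ψ c = 1) (hc : c ⟨0, by omega⟩ = 0) (s : F) :
    ρ (emb (tt hk s)) * E ρ ψ c = E ρ ψ c := by
  by_cases hp : ∃ h3 : 3 ≤ k, 4 ≤ k ∨ c ⟨2, by omega⟩ = 0
  · -- a commutator of transvections fixing `c`
    obtain ⟨h3, hp⟩ := hp
    obtain ⟨φ, w, hφc, hφw, hφ1, hφ0, hw0, hw1⟩ := exists_pair h3 hp
    obtain ⟨i0, hi0⟩ : ∃ i : Fin k, i = ⟨0, by omega⟩ := ⟨_, rfl⟩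
    obtain ⟨i1, hi1⟩ : ∃ i : Fin k, i = ⟨1, by omega⟩ := ⟨_, rfl⟩
    rw [← hi0] at hφ0 hw0 hc
    rw [← hi1] at hφ1 hw1
    have h10 : i1 ≠ i0 := by simp [hi0, hi1, Fin.ext_iff]
    have hu : φ ⬝ᵥ Pi.single i1 s = 0 := by rw [dotProduct_single, hφ1, zero_mul]
    have hv : (Pi.single i0 1 : Fin k → F) ⬝ᵥ w = 0 := by rw [single_dotProduct, hw0, mul_zero]
    have huc : (tE (Pi.single i1 s) φ hu).1 *ᵥ c = c := by
      show tv _ _ *ᵥ c = c
      rw [tv_mulVec, hφc, zero_smul, add_zero]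
    have hvc : (tE w (Pi.single i0 1) hv).1 *ᵥ c = c := by
      show tv _ _ *ᵥ c = c
      rw [tv_mulVec, single_dotProduct, hc, mul_zero, zero_smul, add_zero]
    refine comm_fix ρ hψ h1 (emb_commute ρ huc) (emb_commute ρ hvc) ?_
    rw [← map_mul, ← map_mul, ← map_mul]
    refine congrArg emb (Subtype.ext (ext_mulVec fun x => ?_))
    show (tv _ _ * tv _ _) *ᵥ x = (tv (Pi.single ⟨1, _⟩ s) (Pi.single ⟨0, _⟩ 1) * (tv _ _ * tv _ _)) *ᵥ x
    rw [← hi0, ← hi1]
    simp only [← Matrix.mulVec_mulVec, tv_mulVec, single_dotProduct, one_mul,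
      smul_eq_mul, dotProduct_add, dotProduct_smul, hφw, hw0, Pi.single_eq_of_ne h10.symm, mul_zero,
      add_zero, mul_one]
    module
  · push Not at hp
    rcases hg with h4 | ⟨rfl, hq⟩ | ⟨rfl, hq2, hq4⟩
    · exact absurd h4 (Nat.not_le.2 (hp (by omega)).1)
    · -- a torus element fixing `c` in `SL_3`
      obtain ⟨d, hd0, hd2⟩ := exists_sq_ne_one hq
      have hc2 : c 2 ≠ 0 := (hp le_rfl).2
      have hc0 : c 0 = 0 := hc
      let h : Matrix.SpecialLinearGroup (Fin 3) F :=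
        ⟨!![d⁻¹, 0, 0; 0, d, (1 - d) * c 1 / c 2; 0, 0, 1], by simp [Matrix.det_fin_three, hd0]⟩
      have hhc : h.1 *ᵥ c = c := by
        ext i
        fin_cases i
        · simp [h, mulVec, dotProduct, Fin.sum_univ_three, hc0]
        · simp [h, mulVec, dotProduct, Fin.sum_univ_three]
          field_simp
          ring
        · simp [h, mulVec, dotProduct, Fin.sum_univ_three]
      obtain ⟨u, hu⟩ : ∃ u, u = s / (d ^ 2 - 1) := ⟨_, rfl⟩
      have hyc : (tt hk u).1 *ᵥ c = c := by rw [tt_mulVec, hc, zero_smul, add_zero]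
      refine comm_fix ρ hψ h1 (emb_commute ρ (a := h) hhc) (emb_commute ρ hyc) ?_
      rw [← map_mul, ← map_mul, ← map_mul, ← mul_assoc, tt_add]
      have hsu : s + u = d ^ 2 * u := by
        have : d ^ 2 - 1 ≠ 0 := sub_ne_zero.2 hd2
        rw [hu]
        field_simp
        ring
      rw [hsu]
      refine congrArg emb (Subtype.ext ?_)
      show !![d⁻¹, 0, 0; 0, d, (1 - d) * c 1 / c 2; 0, 0, 1] * tv (Pi.single 1 u) (Pi.single 0 1) =
        tv (Pi.single 1 (d ^ 2 * u)) (Pi.single 0 1) * !![d⁻¹, 0, 0; 0, d, (1 - d) * c 1 / c 2; 0, 0, 1]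
      ext i j
      fin_cases i <;> fin_cases j <;>
        simp [tv, Matrix.mul_apply, Fin.sum_univ_three, vecMulVec_apply]
      field_simp
    · -- a torus element fixing `c` in the stabiliser of the point
      obtain ⟨d, hd0, hd3⟩ := exists_cube_ne_one hq2 hq4
      have hc0 : c 0 = 0 := hc
      have hdet : d * (!![(d ^ 2)⁻¹, 0; 0, d] : Matrix (Fin 2) (Fin 2) F).det = 1 := by
        rw [Matrix.det_fin_two_of]
        field_simp
        ring
      have hBc : (!![(d ^ 2)⁻¹, 0; 0, d] : Matrix (Fin 2) (Fin 2) F) *ᵥ c = d • c := by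
        ext i
        fin_cases i <;> simp [mulVec, dotProduct, Fin.sum_univ_two, hc0]
      obtain ⟨u, hu⟩ : ∃ u, u = s / (d ^ 3 - 1) := ⟨_, rfl⟩
      have hyc : (tt hk u).1 *ᵥ c = c := by rw [tt_mulVec, hc, zero_smul, add_zero]
      refine comm_fix ρ hψ h1 (x := pm d 0 _ hdet) (E_comm ρ d _ hdet hBc) (emb_commute ρ hyc) ?_
      rw [← mul_assoc, ← map_mul, tt_add]
      have hsu : s + u = d ^ 3 * u := by
        have : d ^ 3 - 1 ≠ 0 := sub_ne_zero.2 hd3
        rw [hu]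
        field_simp
        ring
      rw [hsu]
      refine Subtype.ext ?_
      show mk d 0 !![(d ^ 2)⁻¹, 0; 0, d] * mk 1 0 (tv (Pi.single 1 u) (Pi.single 0 1)) =
        mk 1 0 (tv (Pi.single 1 (d ^ 3 * u)) (Pi.single 0 1)) * mk d 0 !![(d ^ 2)⁻¹, 0; 0, d]
      rw [mk_mul, mk_mul, mul_one, one_mul, smul_zero, smul_zero, Matrix.zero_vecMul, Matrix.zero_vecMul]
      refine congrArg (mk d _) ?_
      ext i j
      fin_cases i <;> fin_cases j <;>
        simp [tv, Matrix.mul_apply, Fin.sum_univ_two, vecMulVec_apply]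
      field_simp

theorem card_zero_first {j : ℕ} :
    Fintype.card {c : Fin (j + 1) → F // c 0 = 0} = Fintype.card F ^ j := by
  rw [Fintype.card_congr (β := Fin j → F)
    { toFun := fun c i => c.1 i.succ
      invFun := fun v => ⟨Fin.cons 0 v, rfl⟩
      left_inv := fun c => Subtype.ext (funext fun i => Fin.cases c.2.symm (fun i => rfl) i)
      right_inv := fun v => funext fun i => Fin.cons_succ (α := fun _ => F) 0 v i }, Fintype.card_fun, Fintype.card_fin]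

/-- The descent: the character of the fixed space at a transvection. -/
theorem char_sub_tt (hk : 2 ≤ k) (hg : Good k (Fintype.card F)) (hψ : ψ ≠ 1) (h1 : mult ρ ψ 1 = 1)
    {s : F} (hs : s ≠ 0) :
    (sub ρ ψ).character (tt hk s) = (mult ρ ψ 0 : ℂ) - (Fintype.card F : ℂ) ^ (k - 1) := by
  obtain ⟨j, rfl⟩ : ∃ j, k = j + 1 := ⟨k - 1, by omega⟩
  have hone : (1 : Fin (j + 1) → F) ≠ 0 := fun h => one_ne_zero (congrFun h 0)
  have ht : ρ.character (emb (tt hk s)) = ρ.character (qv 1) := by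
    obtain ⟨u, hu⟩ := isConj_iff.1 (emb_tE_isConj (F := F) hk (a := Pi.single ⟨1, by omega⟩ s)
      (φ := Pi.single ⟨0, by omega⟩ 1) (Pi.single_ne_zero_iff.2 hs) (Pi.single_ne_zero_iff.2 one_ne_zero)
      (by rw [single_dotProduct, one_mul, Pi.single_eq_of_ne (by simp [Fin.ext_iff])]) hone)
    rw [← hu, ρ.char_conj]
    rfl
  obtain ⟨T, hT⟩ : ∃ T, T = ρ (emb (tt hk s)) := ⟨_, rfl⟩
  have htot : ∑ c : Fin (j + 1) → F, LinearMap.trace ℂ V (T * E ρ ψ c) = ρ.character (qv 1) := by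
    rw [← map_sum, ← Finset.mul_sum, sum_E ρ hψ, mul_one, hT, trace_rho, ht]
  have hval : ∀ c : Fin (j + 1) → F, c ≠ 0 →
      LinearMap.trace ℂ V (T * E ρ ψ c) = if c 0 = 0 then (1 : ℂ) else 0 := by
    intro c hc
    by_cases hc0 : c 0 = 0
    · rw [if_pos hc0, hT, tt_fix ρ hk hg hψ ((mult_eq ρ hk hψ hc).trans h1) hc0 s, trace_E ρ hψ,
        mult_eq ρ hk hψ hc, h1, Nat.cast_one]
    · rw [if_neg hc0]
      have hne : c ≠ (tt hk s).1 *ᵥ c := by
        rw [tt_mulVec]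
        intro h
        have h2 := congrFun h ⟨1, by omega⟩
        simp only [Pi.add_apply, Pi.smul_apply, Pi.single_eq_same, smul_eq_mul, left_eq_add] at h2
        exact (mul_ne_zero hc0 hs) h2
      have hsq := E_mul_E ρ hψ c c
      rw [if_pos rfl] at hsq
      rw [← hsq, ← mul_assoc, LinearMap.trace_mul_comm, hT, emb_comm, ← mul_assoc, E_mul_E ρ hψ,
        if_neg hne, zero_mul, map_zero]
  rw [char_sub ρ hψ, ← hT]
  rw [← Finset.sum_erase_add _ _ (Finset.mem_univ (0 : Fin (j + 1) → F)),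
    Finset.sum_congr rfl (fun c hc => hval c (Finset.ne_of_mem_erase hc))] at htot
  have hcount : ∑ c ∈ (Finset.univ : Finset (Fin (j + 1) → F)).erase 0, (if c 0 = 0 then (1 : ℂ) else 0) =
      (Fintype.card F : ℂ) ^ j - 1 := by
    rw [Finset.sum_erase_eq_sub (Finset.mem_univ _), Finset.sum_boole, ← Fintype.card_subtype,
      card_zero_first, Pi.zero_apply, if_pos rfl, Nat.cast_pow]
  rw [hcount, char_qv_eq ρ hk hψ, h1, Nat.cast_one] at htot
  rw [Nat.add_sub_cancel]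
  linear_combination htot

/-- In degree three the fixed space has dimension at least `q - 1`. -/
theorem card_le_mult (ρ : Representation ℂ (Matrix.SpecialLinearGroup (Fin (2 + 1)) F) V)
    (hg : Good 2 (Fintype.card F)) (hψ : ψ ≠ 1) (h1 : mult ρ ψ 1 = 1) :
    Fintype.card F - 1 ≤ mult ρ ψ 0 := by
  obtain ⟨P, hP⟩ : ∃ P, P = (Fintype.card F : ℂ)⁻¹ • ∑ s : F, sub ρ ψ (tt le_rfl s) := ⟨_, rfl⟩
  have hq : (Fintype.card F : ℂ) ≠ 0 := Nat.cast_ne_zero.2 Fintype.card_ne_zero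
  have hmulP : ∀ s : F, sub ρ ψ (tt le_rfl s) * P = P := fun s => by
    rw [hP, mul_smul_comm, Finset.mul_sum]
    congr 1
    refine Fintype.sum_equiv (Equiv.addLeft s) _ _ fun t => ?_
    rw [Equiv.coe_addLeft, ← map_mul, tt_add]
  have hidem : P * P = P := by
    nth_rewrite 1 [hP]
    rw [smul_mul_assoc, Finset.sum_mul]
    simp only [hmulP, Finset.sum_const, Finset.card_univ, ← Nat.cast_smul_eq_nsmul ℂ, smul_smul,
      inv_mul_cancel₀ hq, one_smul]
  have htr := trace_idem P hidem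
  have hsum : ∑ s : F, (sub ρ ψ).character (tt le_rfl s) =
      (Fintype.card F : ℂ) * ((mult ρ ψ 0 : ℂ) - Fintype.card F + 1) := by
    rw [← Finset.sum_erase_add _ _ (Finset.mem_univ (0 : F)),
      Finset.sum_congr rfl (fun s hs => char_sub_tt ρ le_rfl hg hψ h1 (Finset.ne_of_mem_erase hs)),
      Finset.sum_const, Finset.card_erase_of_mem (Finset.mem_univ _), Finset.card_univ, nsmul_eq_mul,
      Nat.cast_sub (Fintype.card_pos (α := F)), tt_zero, Representation.char_one]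
    show _ + (mult ρ ψ 0 : ℂ) = _
    push_cast
    ring
  rw [hP, map_smul, map_sum, smul_eq_mul] at htr
  change (Fintype.card F : ℂ)⁻¹ * ∑ s : F, (sub ρ ψ).character (tt le_rfl s) = _ at htr
  rw [hsum, inv_mul_cancel_left₀ hq, ← hP] at htr
  obtain ⟨N, hN⟩ : ∃ N, N = Module.finrank ℂ (LinearMap.range P) := ⟨_, rfl⟩
  rw [← hN] at htr
  have h2 : ((mult ρ ψ 0 + 1 : ℕ) : ℂ) = ((N + Fintype.card F : ℕ) : ℂ) := by
    push_cast
    linear_combination htr
  have h3 : mult ρ ψ 0 + 1 = N + Fintype.card F := by exact_mod_cast h2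
  omega

end Cfsg.Agent.Small.MinDeg
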