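import Cfsg.Agent.Lib.Small.SLnMinDeg.Perm

/-!
The exceptional pairs: no small transitive actions of `SL_3(2)`, `SL_3(4)`, `SL_4(3)`.
-/

set_option autoImplicit false
set_option linter.unusedSectionVars false

namespace Cfsg.Agent.Small.MinDeg

open Matrix Finset Cfsg.Agent.Small.Generation MulAction

variable {F : Type*} [Field F] [Fintype F] [DecidableEq F]

theorem rank_one_of_sq {N : Matrix (Fin 3) (Fin 3) F} (hN : N * N = 0) (h0 : N ≠ 0) :
    ∃ a φ : Fin 3 → F, a ≠ 0 ∧ φ ≠ 0 ∧ φ ⬝ᵥ a = 0 ∧ N = Matrix.vecMulVec a φ := by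
  obtain ⟨v, hv⟩ : ∃ v, N *ᵥ v ≠ 0 := by
    by_contra! h
    exact h0 (ext_mulVec fun x => by rw [h x, Matrix.zero_mulVec])
  have hNN : ∀ x, N *ᵥ (N *ᵥ x) = 0 := fun x => by rw [Matrix.mulVec_mulVec, hN, Matrix.zero_mulVec]
  have hle : LinearMap.range N.mulVecLin ≤ LinearMap.ker N.mulVecLin := by
    rintro _ ⟨x, rfl⟩
    exact hNN x
  have h1 := LinearMap.finrank_range_add_finrank_ker N.mulVecLin
  have h2 := Submodule.finrank_mono hle
  rw [Module.finrank_fin_fun] at h1
  have hmem : N *ᵥ v ∈ LinearMap.range N.mulVecLin := ⟨v, rfl⟩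
  have h3 : Module.finrank F (LinearMap.range N.mulVecLin) = 1 := by
    have : Module.finrank F (LinearMap.range N.mulVecLin) ≠ 0 := fun h => hv (by
      rw [Submodule.finrank_eq_zero] at h
      exact (Submodule.mem_bot F).1 (h ▸ hmem))
    omega
  obtain ⟨w, hw0, hspan⟩ := finrank_eq_one_iff'.1 h3
  have ha : w.1 ≠ 0 := fun h => hw0 (Subtype.ext h)
  obtain ⟨i, hi⟩ := Function.ne_iff.1 ha
  have hval : ∀ x, N *ᵥ x = ((w.1 i)⁻¹ * (N *ᵥ x) i) • w.1 := fun x => by
    obtain ⟨c, hc⟩ := hspan ⟨N *ᵥ x, x, rfl⟩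
    have hc' : c • w.1 = N *ᵥ x := congrArg Subtype.val hc
    rw [← hc', Pi.smul_apply, smul_eq_mul, mul_comm c, inv_mul_cancel_left₀ (by simpa using hi)]
  refine ⟨w.1, (w.1 i)⁻¹ • N i, ha, fun h => hv ?_, ?_, ext_mulVec fun x => ?_⟩
  · rw [hval v, show (w.1 i)⁻¹ * (N *ᵥ v) i = ((w.1 i)⁻¹ • N i) ⬝ᵥ v by rw [smul_dotProduct]; rfl, h,
      zero_dotProduct, zero_smul]
  · obtain ⟨y, hy⟩ := w.2
    rw [smul_dotProduct]
    show _ • (N *ᵥ w.1) i = 0
    rw [← hy, Matrix.mulVecLin_apply, hNN]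
    simp
  · rw [Matrix.vecMulVec_mulVec, op_smul_eq_smul, hval x, smul_dotProduct]
    rfl

set_option maxHeartbeats 800000 in
/-- `SL_3(2)` and `SL_3(4)` have no small transitive action. -/
theorem index_two (hq : Fintype.card F = 2 ∨ Fintype.card F = 4) (X : Type*) [Fintype X]
    [MulAction (Matrix.SpecialLinearGroup (Fin (2 + 1)) F) X]
    [IsPretransitive (Matrix.SpecialLinearGroup (Fin (2 + 1)) F) X] (hX : 2 ≤ Fintype.card X) :
    qi (Fintype.card F) (2 + 1) ≤ Fintype.card X := by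
  by_contra hlt
  obtain ⟨ψ, hψ⟩ := exists_psi' (F := F)
  have : Nonempty X := Fintype.card_pos_iff.1 (by omega)
  have hqi : qi (Fintype.card F) (2 + 1) = Fintype.card F ^ 2 + Fintype.card F + 1 := by
    simp [qi, Finset.sum_range_succ]; ring
  rw [hqi] at hlt
  obtain ⟨hirr, hm⟩ := small_irr X le_rfl hψ hX (F := F) (k := 2) (by
    rcases hq with hq | hq <;> rw [hq] at hlt ⊢ <;> omega)
  have hnt : Nontrivial ↥(zs X) := Module.nontrivial_of_finrank_pos (R := ℂ) (by rw [finrank_zs]; omega)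
  have hdvd := degree_dvd (zrep (Matrix.SpecialLinearGroup (Fin (2 + 1)) F) X) le_rfl hψ hirr hm
  have hD := finrank_eq (zrep (Matrix.SpecialLinearGroup (Fin (2 + 1)) F) X) le_rfl hψ
  rw [finrank_zs] at hdvd hD
  rw [hm, mul_one] at hD
  rw [hqi] at hdvd
  obtain ⟨x⟩ := (inferInstance : Nonempty X)
  have hidx := index_stabilizer_of_transitive (Matrix.SpecialLinearGroup (Fin (2 + 1)) F) x
  have hmul := Subgroup.index_mul_card (stabilizer (Matrix.SpecialLinearGroup (Fin (2 + 1)) F) x)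
  rw [hidx, Nat.card_eq_fintype_card] at hmul
  have hcard := Local.FS.PSL3Simple.card_SL3 (F := F)
  rw [← hmul] at hcard
  obtain ⟨f, hf⟩ : ∃ f, f = mult (zrep (Matrix.SpecialLinearGroup (Fin (2 + 1)) F) X) ψ 0 := ⟨_, rfl⟩
  obtain ⟨H, hH⟩ : ∃ H, H = Nat.card (stabilizer (Matrix.SpecialLinearGroup (Fin (2 + 1)) F) x) := ⟨_, rfl⟩
  obtain ⟨N, hN⟩ : ∃ N, N = Fintype.card X := ⟨_, rfl⟩
  rw [← hf, ← hN] at hD
  rw [← hH, ← hN] at hcard
  rw [← hN] at hdvd hlt hX
  have main : N = Fintype.card F ^ 2 ∧ 2 ∣ H ∧ (2 : F) = 0 := by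
    have h2 : (Fintype.card F : F) = 0 := Nat.cast_card_eq_zero F
    rcases hq with hq | hq
    · rw [hq] at hdvd hcard hD hlt h2 ⊢
      norm_num at hdvd hcard hD hlt h2 ⊢
      refine ⟨?_, ?_, h2⟩ <;> interval_cases N <;> omega
    · rw [hq] at hdvd hcard hD hlt h2 ⊢
      norm_num at hdvd hcard hD hlt h2 ⊢
      have h22 : (2 : F) = 0 := by
        have : (2 : F) * 2 = 0 := by rw [← h2]; norm_num
        exact mul_self_eq_zero.1 this
      refine ⟨?_, ?_, h22⟩ <;> interval_cases N <;> omega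
  obtain ⟨hNq, hev, h2F⟩ := main
  have hf0 : f = 0 := by
    have : 1 ≤ Fintype.card F ^ 2 := Nat.one_le_pow _ _ Fintype.card_pos
    omega
  have : Fact (Nat.Prime 2) := ⟨Nat.prime_two⟩
  obtain ⟨⟨g, hgx⟩, hg⟩ := exists_prime_orderOf_dvd_card' 2 (hH ▸ hev)
  rw [Subgroup.orderOf_mk] at hg
  have hg2 : g * g = 1 := by
    have := pow_orderOf_eq_one g
    rwa [hg, pow_two] at this
  have hg1 : g ≠ 1 := fun h => by rw [h, orderOf_one] at hg; omega
  have hsq : g.1 * g.1 = 1 := by
    rw [← Matrix.SpecialLinearGroup.coe_mul, hg2, Matrix.SpecialLinearGroup.coe_one]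
  obtain ⟨a, φ, ha, hφ, h, he⟩ := rank_one_of_sq (N := g.1 - 1)
    (by
      rw [sub_mul, mul_sub, hsq, mul_one, one_mul, show (1 : Matrix (Fin 3) (Fin 3) F) - g.1 - (g.1 - 1) =
        (2 : F) • (1 - g.1) by rw [two_smul]; abel, h2F, zero_smul])
    (fun h => hg1 (Subtype.ext (sub_eq_zero.1 h)))
  exact no_fixed_point X (F := F) (k := 2) le_rfl (ψ := ψ) (hf ▸ hf0) (hN ▸ hNq) ha hφ h (by rw [tv, ← he, add_sub_cancel]) x (mem_stabilizer_iff.1 hgx)

set_option maxHeartbeats 800000 in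
/-- `SL_4(3)` has no small transitive action. -/
theorem index_three (hq : Fintype.card F = 3) (X : Type*) [Fintype X]
    [MulAction (Matrix.SpecialLinearGroup (Fin (3 + 1)) F) X]
    [IsPretransitive (Matrix.SpecialLinearGroup (Fin (3 + 1)) F) X] (hX : 2 ≤ Fintype.card X) :
    qi (Fintype.card F) (3 + 1) ≤ Fintype.card X := by
  by_contra hlt
  obtain ⟨ψ, hψ⟩ := exists_psi' (F := F)
  have : Nonempty X := Fintype.card_pos_iff.1 (by omega)
  have hqi : qi (Fintype.card F) (3 + 1) = 40 := by rw [hq]; simp [qi, Finset.sum_range_succ]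
  rw [hqi] at hlt
  obtain ⟨hirr, hm⟩ := small_irr X (show 2 ≤ 3 by norm_num) hψ hX (F := F) (k := 3) (by rw [hq]; omega)
  have hnt : Nontrivial ↥(zs X) := Module.nontrivial_of_finrank_pos (R := ℂ) (by rw [finrank_zs]; omega)
  have hdvd := degree_dvd (zrep (Matrix.SpecialLinearGroup (Fin (3 + 1)) F) X) (by norm_num) hψ hirr hm
  have hD := finrank_eq (zrep (Matrix.SpecialLinearGroup (Fin (3 + 1)) F) X) (by norm_num) hψ
  rw [finrank_zs, hqi, hq] at hdvd
  rw [finrank_zs, hm, mul_one, hq] at hD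
  obtain ⟨f, hf⟩ : ∃ f, f = mult (zrep (Matrix.SpecialLinearGroup (Fin (3 + 1)) F) X) ψ 0 := ⟨_, rfl⟩
  rw [← hf] at hD
  have hf12 : f = 0 ∨ 12 ≤ f := by
    by_cases hne : ∃ a, sub (zrep (Matrix.SpecialLinearGroup (Fin (3 + 1)) F) X) ψ a ≠ 1
    · refine Or.inr ?_
      have h := bound' (F := F) (k := 2) le_rfl (by rw [hq]; unfold Exc; omega) (V := ↥(LinearMap.range (E (zrep (Matrix.SpecialLinearGroup (Fin (3 + 1)) F) X) ψ 0))) _ hne
      rw [show Module.finrank ℂ ↥(LinearMap.range (E (zrep (Matrix.SpecialLinearGroup (Fin (3 + 1)) F) X) ψ 0)) = f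
        from hf.symm, hq] at h
      simp [qi, Finset.sum_range_succ] at h
      omega
    · refine Or.inl ?_
      push Not at hne
      have hall : ∀ v, v = (0 : ↥(LinearMap.range (E (zrep (Matrix.SpecialLinearGroup (Fin (3 + 1)) F) X) ψ 0))) := by
        intro v
        by_contra hv
        have h := sub_fixed_bound (zrep (Matrix.SpecialLinearGroup (Fin (3 + 1)) F) X) (by norm_num) hirr
          (zrep_nontrivial X hX) (ψ := ψ) (fun h' => hv (h' v fun a => by rw [hne a]; rfl))
        rw [finrank_zs, hqi] at h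
        omega
      have : Subsingleton ↥(LinearMap.range (E (zrep (Matrix.SpecialLinearGroup (Fin (3 + 1)) F) X) ψ 0)) :=
        ⟨fun a b => (hall a).trans (hall b).symm⟩
      rw [hf]
      unfold mult
      exact (Module.finrank_zero_iff (R := ℂ)).2 this
  have hmain : Fintype.card X = 27 ∧ f = 0 := by
    norm_num at hD hdvd
    rcases hf12 with h0 | h12
    · exact ⟨by omega, h0⟩
    · have h : Fintype.card X - 1 = 38 := by omega
      rw [h] at hdvd
      norm_num at hdvd
  obtain ⟨hc27, hf0⟩ := hmain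
  have h0 : mult (zrep (Matrix.SpecialLinearGroup (Fin (3 + 1)) F) X) ψ 0 = 0 := hf ▸ hf0
  have hcard : Fintype.card X = Fintype.card F ^ 3 := by rw [hc27, hq]; norm_num
  have h2 : (2 : F) ≠ 0 := fun h => by
    have h3 : (Fintype.card F : F) = 0 := Nat.cast_card_eq_zero F
    rw [hq, Nat.cast_ofNat] at h3
    exact one_ne_zero (show (1 : F) = 0 by linear_combination h3 - h)
  -- the group of diagonal sign matrices
  let S : Subgroup (Matrix.SpecialLinearGroup (Fin (3 + 1)) F) :=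
    { carrier := {g | ∃ (a : Matrix.SpecialLinearGroup (Fin 3) F) (e : Fin 3 → F),
        (∀ i, e i * e i = 1) ∧ a.1 = Matrix.diagonal e ∧ g = emb a}
      one_mem' := ⟨1, 1, fun i => by simp, by rw [Matrix.SpecialLinearGroup.coe_one]; exact Matrix.diagonal_one.symm,
        (map_one emb).symm⟩
      mul_mem' := by
        rintro _ _ ⟨a, e, he, ha, rfl⟩ ⟨a', e', he', ha', rfl⟩
        refine ⟨a * a', fun i => e i * e' i, fun i => by linear_combination he' i + (e' i * e' i) * he i, ?_,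
          (map_mul emb a a').symm⟩
        rw [Matrix.SpecialLinearGroup.coe_mul, ha, ha', Matrix.diagonal_mul_diagonal]
      inv_mem' := by
        rintro _ ⟨a, e, he, ha, rfl⟩
        refine ⟨a, e, he, ha, inv_eq_of_mul_eq_one_left ?_⟩
        rw [← map_mul, show a * a = 1 from Subtype.ext (by
          rw [Matrix.SpecialLinearGroup.coe_mul, Matrix.SpecialLinearGroup.coe_one, ha,
            Matrix.diagonal_mul_diagonal, ← Matrix.diagonal_one]
          exact congrArg _ (funext he)), map_one] }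
  have hS : IsPGroup 2 S := fun g => by
    obtain ⟨a, e, he, ha, hg⟩ := g.2
    refine ⟨1, Subtype.ext ?_⟩
    rw [pow_one, pow_two, Subgroup.coe_mul, Subgroup.coe_one, hg, ← map_mul,
      show a * a = 1 from Subtype.ext (by
        rw [Matrix.SpecialLinearGroup.coe_mul, Matrix.SpecialLinearGroup.coe_one, ha,
          Matrix.diagonal_mul_diagonal, ← Matrix.diagonal_one]
        exact congrArg _ (funext he)), map_one]
  have : Fact (Nat.Prime 2) := ⟨Nat.prime_two⟩
  obtain ⟨w, hw⟩ := hS.nonempty_fixed_point_of_prime_not_dvd_card X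
    (by rw [Nat.card_eq_fintype_card, hc27]; norm_num)
  -- lifts of transvections fixing `w`
  have lift : ∀ (x : Matrix.SpecialLinearGroup (Fin 3) F) (e : Fin 3 → F),
      (∀ i, e i * e i = 1) → e 0 * e 1 * e 2 = 1 → Matrix.diagonal e * x.1 = x.1 * Matrix.diagonal e →
      ∃ r : Fin 3 → F, (∀ i, e i = -1 → r i = 0) ∧
        ((qv r : Matrix.SpecialLinearGroup (Fin (3 + 1)) F) * emb x) • w = w := by
    intro x e he hprod hcomm
    obtain ⟨r, hr⟩ := (regular_of_zero X (F := F) (k := 3) h0 hcard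
      ((emb x : Matrix.SpecialLinearGroup (Fin (3 + 1)) F) • w)).2 w
    have hr' : ((qv r : Matrix.SpecialLinearGroup (Fin (3 + 1)) F) * emb x) • w = w := by rw [mul_smul]; exact hr
    refine ⟨r, ?_, hr'⟩
    obtain ⟨a, ha⟩ : ∃ a : Matrix.SpecialLinearGroup (Fin 3) F, a.1 = Matrix.diagonal e :=
      ⟨⟨Matrix.diagonal e, by rw [Matrix.det_diagonal, Fin.prod_univ_three, hprod]⟩, rfl⟩
    have hs : (emb a : Matrix.SpecialLinearGroup (Fin (3 + 1)) F) • w = w :=
      hw ⟨emb a, a, e, he, ha, rfl⟩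
    have hax : a * x = x * a := Subtype.ext (by
      rw [Matrix.SpecialLinearGroup.coe_mul, Matrix.SpecialLinearGroup.coe_mul, ha, hcomm])
    obtain ⟨r', hr'e⟩ : ∃ r', r' = r ᵥ* a.1 := ⟨_, rfl⟩
    have haa : r' ᵥ* a.1 = r := by
      rw [hr'e, Matrix.vecMul_vecMul, ha, Matrix.diagonal_mul_diagonal, show (fun i => e i * e i) = (fun _ => 1) from funext he,
        Matrix.diagonal_one, Matrix.vecMul_one]
    have hmove : (emb a : Matrix.SpecialLinearGroup (Fin (3 + 1)) F) * qv r = qv r' * emb a :=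
      pm_comm 1 a.1 (by rw [a.2, mul_one]) (by rw [one_smul, haa])
    have h1 : (qv r' : Matrix.SpecialLinearGroup (Fin (3 + 1)) F) • ((emb x : Matrix.SpecialLinearGroup (Fin (3 + 1)) F) • w) = w := by
      conv_rhs => rw [← hs, ← hr', ← mul_smul, ← mul_assoc, hmove, mul_assoc, ← map_mul, hax, map_mul,
        mul_smul, mul_smul, hs]
    have h2' : r' = r := (regular_of_zero X (F := F) (k := 3) h0 hcard
      ((emb x : Matrix.SpecialLinearGroup (Fin (3 + 1)) F) • w)).1 (h1.trans hr.symm)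
    intro i hi
    have h3 := congrFun h2' i
    rw [hr'e, ha, Matrix.vecMul_diagonal, hi] at h3
    have : (2 : F) * r i = 0 := by linear_combination -h3
    exact (mul_eq_zero.1 this).resolve_left h2
  let x01 : Matrix.SpecialLinearGroup (Fin 3) F := Matrix.SpecialLinearGroup.transvection (show (0 : Fin 3) ≠ 1 by decide) 1
  let x21 : Matrix.SpecialLinearGroup (Fin 3) F := Matrix.SpecialLinearGroup.transvection (show (2 : Fin 3) ≠ 1 by decide) 1
  let x02 : Matrix.SpecialLinearGroup (Fin 3) F := Matrix.SpecialLinearGroup.transvection (show (0 : Fin 3) ≠ 2 by decide) 1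
  obtain ⟨r1, hr1, hw1⟩ := lift x01 ![-1, -1, 1] (fun i => by fin_cases i <;> simp) (by simp) (by
    ext i j
    fin_cases i <;> fin_cases j <;> simp [x01, Matrix.SpecialLinearGroup.transvection, Matrix.transvection, Matrix.diagonal_mul, Matrix.mul_diagonal])
  obtain ⟨r2, hr2, hw2⟩ := lift x21 ![1, -1, -1] (fun i => by fin_cases i <;> simp) (by simp) (by
    ext i j
    fin_cases i <;> fin_cases j <;> simp [x21, Matrix.SpecialLinearGroup.transvection, Matrix.transvection, Matrix.diagonal_mul, Matrix.mul_diagonal])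
  obtain ⟨r3, hr3, hw3⟩ := lift x02 ![-1, 1, -1] (fun i => by fin_cases i <;> simp) (by simp) (by
    ext i j
    fin_cases i <;> fin_cases j <;> simp [x02, Matrix.SpecialLinearGroup.transvection, Matrix.transvection, Matrix.diagonal_mul, Matrix.mul_diagonal])
  have a0 : r1 0 = 0 := hr1 0 (by simp)
  have a1 : r1 1 = 0 := hr1 1 (by simp)
  have b1 : r2 1 = 0 := hr2 1 (by simp)
  have b2 : r2 2 = 0 := hr2 2 (by simp)
  have c0 : r3 0 = 0 := hr3 0 (by simp)
  have c2 : r3 2 = 0 := hr3 2 (by simp)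
  have key : (qv r3 * emb x02) * (qv r2 * emb x21) =
      (qv r1 * emb x01) * (qv r2 * emb x21) * (qv r3 * emb x02) *
        (qv ![0, -(r1 2), -(r1 2) - r2 0] : Matrix.SpecialLinearGroup (Fin (3 + 1)) F) := Subtype.ext (by
    simp only [Matrix.SpecialLinearGroup.coe_mul, qv_val, emb_val, mk_mul, one_mul, mul_one, one_smul, zero_add]
    have hB : x02.1 * x21.1 = x01.1 * x21.1 * x02.1 := by
      ext i j
      fin_cases i <;> fin_cases j <;>
        simp [x01, x02, x21, Matrix.SpecialLinearGroup.transvection, Matrix.transvection, Matrix.mul_apply,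
          Fin.sum_univ_three]
    congr 1
    funext j
    fin_cases j <;>
      simp [x01, x02, x21, Matrix.SpecialLinearGroup.transvection, Matrix.transvection, Matrix.vecMul, dotProduct,
        Fin.sum_univ_three, Matrix.mul_apply, Matrix.single_apply, Matrix.one_apply, a0, a1, b1, b2, c0, c2] <;> ring)
  obtain ⟨d, hd⟩ : ∃ d : Fin 3 → F, d = ![0, -(r1 2), -(r1 2) - r2 0] := ⟨_, rfl⟩
  rw [← hd] at key
  obtain ⟨B, hB⟩ : ∃ B : Matrix.SpecialLinearGroup (Fin (3 + 1)) F,
      B = (qv r1 * emb x01) * (qv r2 * emb x21) * (qv r3 * emb x02) := ⟨_, rfl⟩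
  rw [← hB] at key
  have hBw : B • w = w := by rw [hB, mul_smul, mul_smul, hw3, hw2, hw1]
  have hdw : (qv d : Matrix.SpecialLinearGroup (Fin (3 + 1)) F) • w = w := by
    have h := congrArg (fun g : Matrix.SpecialLinearGroup (Fin (3 + 1)) F => g • w) key
    rw [mul_smul, mul_smul B, hw2, hw3] at h
    exact MulAction.injective B (h.symm.trans hBw.symm)
  have hd0 : d = 0 := (regular_of_zero X (F := F) (k := 3) h0 hcard w).1 (show (qv d : Matrix.SpecialLinearGroup (Fin (3 + 1)) F) • w =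
    (qv 0 : Matrix.SpecialLinearGroup (Fin (3 + 1)) F) • w by rw [hdw, qv_zero, one_smul])
  have a2 : r1 2 = 0 := by
    have := congrFun hd0 1
    rw [hd] at this
    simpa using this
  have hr10 : r1 = 0 := funext fun i => by fin_cases i <;> assumption
  rw [hr10, qv_zero, one_mul] at hw1
  have hx : x01 = tE (Pi.single 0 1) (Pi.single 1 1) (by simp) := Subtype.ext (by
    ext i j
    fin_cases i <;> fin_cases j <;>
      simp [x01, Matrix.SpecialLinearGroup.transvection, Matrix.transvection, tE, tv, vecMulVec_apply])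
  rw [hx] at hw1
  refine no_fixed_point X (F := F) (k := 3) (by norm_num) h0 hcard ?_ ?_ ?_ (emb_tE _ _ _) w hw1
  · exact fun h => one_ne_zero (α := F) (by simpa using congrFun h (Fin.succ 0))
  · exact fun h => one_ne_zero (α := F) (by
      have := congrFun h (Fin.succ 1)
      rwa [Fin.cons_succ, Pi.single_eq_same] at this)
  · simp [dotProduct, Fin.sum_univ_succ]

end Cfsg.Agent.Small.MinDeg
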