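import Cfsg.Agent.Lib.Small.SLnMinDeg.Descent

/-!
An irreducible representation with a vector fixed by the stabiliser of a vector has large degree; divisibility
of degrees by the size of the class of transvections.
-/

set_option autoImplicit false
set_option linter.unusedSectionVars false

namespace Cfsg.Agent.Small.MinDeg

open Matrix Finset Cfsg.Agent.Small.Generation
open scoped LinearAlgebra.Projectivization

variable {F : Type*} [Field F] [Fintype F] [DecidableEq F] {k : ℕ}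
variable {V : Type*} [AddCommGroup V] [Module ℂ V] [FiniteDimensional ℂ V]

/-- `1 + q + ⋯ + q ^ (n - 1)`. -/
def qi (q n : ℕ) : ℕ := ∑ i ∈ Finset.range n, q ^ i

theorem qi_succ (q n : ℕ) : qi q (n + 1) = q * qi q n + 1 := by
  rw [qi, qi, Finset.sum_range_succ', Finset.mul_sum, pow_zero]
  refine congrArg (· + 1) (Finset.sum_congr rfl fun i _ => ?_)
  rw [pow_succ']

theorem qi_mul (q n : ℕ) (hq : 1 ≤ q) : qi q n * (q - 1) = q ^ n - 1 := by
  have h := geom_sum_mul_add (q - 1) n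
  rw [Nat.sub_add_cancel hq] at h
  rw [qi, ← h, Nat.add_sub_cancel]

theorem schur {G : Type*} [Group G] (ρ : Representation ℂ G V) [Nontrivial V]
    (hirr : ∀ S : Submodule ℂ V, (∀ g, ∀ x ∈ S, ρ g x ∈ S) → S = ⊥ ∨ S = ⊤) (T : Module.End ℂ V)
    (hT : ∀ g, ρ g * T = T * ρ g) : ∃ s : ℂ, T = s • 1 := by
  obtain ⟨s, hs⟩ := Module.End.exists_eigenvalue T
  refine ⟨s, ?_⟩
  rcases hirr (Module.End.eigenspace T s) (fun g x hx => by
    rw [Module.End.mem_eigenspace_iff] at hx ⊢
    rw [← Module.End.mul_apply, ← hT, Module.End.mul_apply, hx, map_smul]) with h | h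
  · exact absurd h hs
  · refine LinearMap.ext fun x => ?_
    have hx : x ∈ Module.End.eigenspace T s := h ▸ Submodule.mem_top
    rw [Module.End.mem_eigenspace_iff] at hx
    rw [hx]
    rfl

theorem sum_rho_eq_zero {G : Type*} [Group G] [Fintype G] (ρ : Representation ℂ G V)
    (hirr : ∀ S : Submodule ℂ V, (∀ g, ∀ x ∈ S, ρ g x ∈ S) → S = ⊥ ∨ S = ⊤) (hne : ∃ g, ρ g ≠ 1) :
    ∑ g : G, ρ g = 0 := by
  have hfix : ∀ h : G, ρ h * ∑ g : G, ρ g = ∑ g : G, ρ g := fun h => by
    rw [Finset.mul_sum]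
    exact Fintype.sum_equiv (Equiv.mulLeft h) _ _ fun g => by rw [← map_mul]; rfl
  rcases hirr (LinearMap.range (∑ g : G, ρ g)) (fun h x hx => by
    obtain ⟨y, rfl⟩ := hx
    exact ⟨y, by rw [← Module.End.mul_apply, hfix]⟩) with h | h
  · exact LinearMap.range_eq_bot.1 h
  · obtain ⟨g, hg⟩ := hne
    refine absurd (LinearMap.ext fun x => ?_) hg
    obtain ⟨y, rfl⟩ : x ∈ LinearMap.range (∑ g : G, ρ g) := h ▸ Submodule.mem_top
    rw [Module.End.one_apply, ← Module.End.mul_apply, hfix]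

/-- The base point of the projective space. -/
def p0 : ℙ F (Fin (k + 1) → F) :=
  Projectivization.mk F (Pi.single 0 1) (Pi.single_ne_zero_iff.2 one_ne_zero)

theorem sl_smul_def {n : ℕ} (g : Matrix.SpecialLinearGroup (Fin n) F) (v : Fin n → F) :
    g • v = g.1 *ᵥ v := rfl

theorem pretransitive (hk : 1 ≤ k) :
    MulAction.IsPretransitive (Matrix.SpecialLinearGroup (Fin (k + 1)) F) (ℙ F (Fin (k + 1) → F)) := by
  refine ⟨fun x y => ?_⟩
  obtain ⟨g, hg⟩ := exists_mulVec_eq (show 2 ≤ k + 1 by omega) x.rep_nonzero y.rep_nonzero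
  refine ⟨g, ?_⟩
  rw [← Projectivization.mk_rep x, Projectivization.smul_mk, ← Projectivization.mk_rep y]
  refine (Projectivization.mk_eq_mk_iff F _ _ _ _).2 ⟨1, ?_⟩
  rw [one_smul, sl_smul_def, hg]

theorem card_proj : Nat.card (ℙ F (Fin (k + 1) → F)) = qi (Fintype.card F) (k + 1) := by
  rw [Projectivization.card_of_finrank F _ (Module.finrank_fin_fun F), Nat.card_eq_fintype_card, qi]

theorem mem_stab {g : Matrix.SpecialLinearGroup (Fin (k + 1)) F} :
    g ∈ MulAction.stabilizer (Matrix.SpecialLinearGroup (Fin (k + 1)) F) (p0 (F := F) (k := k)) ↔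
      ∃ d : F, g.1 *ᵥ Pi.single 0 1 = Pi.single 0 d := by
  rw [MulAction.mem_stabilizer_iff, p0, Projectivization.smul_mk, Projectivization.mk_eq_mk_iff, sl_smul_def]
  constructor
  · rintro ⟨a, ha⟩
    refine ⟨a, ?_⟩
    rw [← ha]
    ext i
    by_cases hi : i = 0
    · subst hi; simp [Units.smul_def]
    · simp [hi]
  · rintro ⟨d, hd⟩
    have hd0 : d ≠ 0 := by
      intro h0
      rw [h0, Pi.single_zero] at hd
      have h2 := congrArg (fun x => (g⁻¹).1 *ᵥ x) hd
      simp only [Matrix.mulVec_mulVec, Matrix.mulVec_zero] at h2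
      rw [← Matrix.SpecialLinearGroup.coe_mul, inv_mul_cancel, Matrix.SpecialLinearGroup.coe_one,
        Matrix.one_mulVec] at h2
      exact Pi.single_ne_zero_iff.2 one_ne_zero h2
    refine ⟨Units.mk0 d hd0, ?_⟩
    rw [hd]
    ext i
    by_cases hi : i = 0
    · subst hi; simp
    · simp [hi]

theorem mk_mulVec (d : F) (r : Fin k → F) (B : Matrix (Fin k) (Fin k) F) (x : Fin (k + 1) → F) :
    mk d r B *ᵥ x = Fin.cons (d * x 0 + r ⬝ᵥ fun j => x j.succ) (B *ᵥ fun j => x j.succ) := by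
  ext i
  rw [Matrix.mulVec, dotProduct, Fin.sum_univ_succ]
  induction i using Fin.cases with
  | zero => simp [mk_zero_zero, mk_zero_succ, dotProduct]
  | succ i => simp [mk_succ_zero, mk_succ_succ, Matrix.mulVec, dotProduct]

theorem stab_transitive (hk : 2 ≤ k) {x y : Fin (k + 1) → F} (hx : (fun j : Fin k => x j.succ) ≠ 0)
    (hy : (fun j : Fin k => y j.succ) ≠ 0) :
    ∃ p : Matrix.SpecialLinearGroup (Fin (k + 1)) F,
      p.1 *ᵥ Pi.single 0 1 = Pi.single 0 1 ∧ p.1 *ᵥ x = y := by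
  obtain ⟨B, hB⟩ := exists_mulVec_eq hk hx hy
  obtain ⟨i, hi⟩ := Function.ne_iff.1 hx
  refine ⟨pm 1 (Pi.single i ((y 0 - x 0) / x i.succ)) B.1 (by rw [B.2, mul_one]), mk_mulVec_e0 _ _ _, ?_⟩
  show mk _ _ _ *ᵥ x = y
  rw [mk_mulVec, hB, single_dotProduct, one_mul, div_mul_cancel₀ _ (by simpa using hi), add_sub_cancel]
  exact Fin.cons_self_tail y

variable (ρ : Representation ℂ (Matrix.SpecialLinearGroup (Fin (k + 1)) F) V)

set_option maxHeartbeats 1000000 in
/-- An irreducible nontrivial representation with a vector fixed by the stabiliser of a vector. -/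
theorem fixed_bound (hk : 2 ≤ k) [Nontrivial V]
    (hirr : ∀ S : Submodule ℂ V, (∀ g, ∀ x ∈ S, ρ g x ∈ S) → S = ⊥ ∨ S = ⊤) (hne : ∃ g, ρ g ≠ 1)
    {v : V} (hv0 : v ≠ 0)
    (hv : ∀ (r : Fin k → F) (B : Matrix (Fin k) (Fin k) F) (h : 1 * B.det = 1), ρ (pm 1 r B h) v = v) :
    qi (Fintype.card F) (k + 1) - 1 ≤ Module.finrank ℂ V := by
  classical
  let G := Matrix.SpecialLinearGroup (Fin (k + 1)) F
  obtain ⟨e0, he0⟩ : ∃ e : Fin (k + 1) → F, e = Pi.single 0 1 := ⟨_, rfl⟩
  let P1 : Finset G := Finset.univ.filter fun g => g • e0 = e0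
  let P0 : Finset G := Finset.univ.filter fun g => g ∈ MulAction.stabilizer G (p0 (F := F) (k := k))
  have hP1 : ∀ g : G, g ∈ P1 ↔ g.1 *ᵥ e0 = e0 := fun g => by simp only [P1, Finset.mem_filter, Finset.mem_univ, true_and]; exact Iff.rfl
  have h1P1 : (1 : G) ∈ P1 := by simp [P1]
  have hc1 : (P1.card : ℂ) ≠ 0 := Nat.cast_ne_zero.2 (Finset.card_ne_zero.2 ⟨1, h1P1⟩)
  obtain ⟨e, he⟩ : ∃ e : Module.End ℂ V, e = (P1.card : ℂ)⁻¹ • ∑ p ∈ P1, ρ p := ⟨_, rfl⟩
  have hsm : ∀ p ∈ P1, ∀ x : G, x ∈ P1 ↔ p * x ∈ P1 := fun p hp x => by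
    simp only [P1, Finset.mem_filter, Finset.mem_univ, true_and] at hp ⊢
    rw [mul_smul]
    conv_rhs => rhs; rw [← hp]
    exact smul_left_cancel_iff p |>.symm
  have hel : ∀ p ∈ P1, ρ p * e = e := fun p hp => by
    rw [he, mul_smul_comm, Finset.mul_sum]
    congr 1
    refine Finset.sum_equiv (Equiv.mulLeft p) (fun x => hsm p hp x) fun x _ => ?_
    rw [← map_mul]; rfl
  have her : ∀ p ∈ P1, e * ρ p = e := fun p hp => by
    rw [he, smul_mul_assoc, Finset.sum_mul]
    congr 1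
    refine Finset.sum_equiv (Equiv.mulRight p) (fun x => ?_) fun x _ => by rw [← map_mul]; rfl
    simp only [P1, Finset.mem_filter, Finset.mem_univ, true_and, Equiv.coe_mulRight] at hp ⊢
    rw [mul_smul, hp]
  have hee : e * e = e := by
    nth_rewrite 1 [he]
    rw [smul_mul_assoc, Finset.sum_mul, Finset.sum_congr rfl hel, Finset.sum_const,
      ← Nat.cast_smul_eq_nsmul ℂ, smul_smul, inv_mul_cancel₀ hc1, one_smul]
  have hev : e v = v := by
    rw [he, LinearMap.smul_apply, LinearMap.sum_apply, Finset.sum_congr rfl (g := fun _ => v) (fun p hp => by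
      obtain ⟨r, B, h, rfl⟩ := exists_pm (d := (1 : F)) (he0 ▸ (hP1 p).1 hp)
      exact hv r B h), Finset.sum_const, ← Nat.cast_smul_eq_nsmul ℂ, smul_smul, inv_mul_cancel₀ hc1, one_smul]
  -- elements of the point stabiliser commute with `e`
  have hcomm : ∀ g ∈ P0, ρ g * e = e * ρ g := by
    intro g hg
    obtain ⟨d, hd⟩ := mem_stab.1 (Finset.mem_filter.1 hg).2
    have hd' : g • e0 = d • e0 := by
      rw [sl_smul_def, he0, hd, ← Pi.single_smul, smul_eq_mul, mul_one]
    have hd0 : d ≠ 0 := fun h0 => by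
      rw [h0, zero_smul, smul_eq_zero_iff_eq g, he0] at hd'
      exact Pi.single_ne_zero_iff.2 one_ne_zero hd'
    rw [he, mul_smul_comm, smul_mul_assoc, Finset.mul_sum, Finset.sum_mul]
    congr 1
    refine Finset.sum_equiv (MulAut.conj g).toEquiv (fun x => ?_) fun x _ => ?_
    · simp only [P1, Finset.mem_filter, Finset.mem_univ, true_and, MulEquiv.toEquiv_eq_coe,
        EquivLike.coe_coe, MulAut.conj_apply]
      rw [mul_smul, mul_smul, inv_smul_eq_iff.2 hd'.symm |> fun h => show g⁻¹ • e0 = d⁻¹ • e0 from ?_,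
        smul_comm x, smul_comm g]
      · rw [inv_smul_eq_iff₀ hd0, ← hd']
        exact (smul_left_cancel_iff g).symm
      · rw [inv_smul_eq_iff, smul_comm g, hd', inv_smul_smul₀ hd0]
    · rw [MulEquiv.toEquiv_eq_coe, EquivLike.coe_coe, MulAut.conj_apply, ← map_mul, ← map_mul,
        inv_mul_cancel_right]
  -- outside the point stabiliser `e ρ(g) e` is constant
  have hout : ∀ g : G, g ∉ P0 → (fun j : Fin k => (g.1 *ᵥ e0) j.succ) ≠ 0 := by
    intro g hg hz
    refine hg (Finset.mem_filter.2 ⟨Finset.mem_univ _, mem_stab.2 ⟨(g.1 *ᵥ e0) 0, funext fun i => ?_⟩⟩)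
    rw [← he0]
    induction i using Fin.cases with
    | zero => simp
    | succ i => simpa [Fin.succ_ne_zero i] using congrFun hz i
  have hconst : ∀ g g' : G, g ∉ P0 → g' ∉ P0 → e * ρ g * e = e * ρ g' * e := by
    intro g g' hg hg'
    obtain ⟨p, hp, hpx⟩ := stab_transitive hk (hout g hg) (hout g' hg')
    have hpP : p ∈ P1 := (hP1 p).2 (he0 ▸ hp)
    have hq : g'⁻¹ * p * g ∈ P1 := by
      simp only [P1, Finset.mem_filter, Finset.mem_univ, true_and, mul_smul]
      rw [inv_smul_eq_iff, sl_smul_def, sl_smul_def, hpx, sl_smul_def]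
    calc e * ρ g * e = e * ρ p * ρ g * e := by rw [her p hpP]
      _ = e * ρ g' * (ρ (g'⁻¹ * p * g) * e) := by
          simp only [← mul_assoc, map_mul]
          rw [mul_assoc e (ρ g') (ρ g'⁻¹), ← map_mul, mul_inv_cancel, map_one, mul_one]
      _ = e * ρ g' * e := by rw [hel _ hq]
  -- a point outside the stabiliser
  obtain ⟨w, hw⟩ : ∃ w : G, w ∉ P0 := by
    obtain ⟨w, hw⟩ := exists_mulVec_eq (F := F) (show 2 ≤ k + 1 by omega)
      (u := Pi.single 0 1) (v := Pi.single (1 : Fin (k + 1)) 1)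
      (Pi.single_ne_zero_iff.2 one_ne_zero) (Pi.single_ne_zero_iff.2 one_ne_zero)
    refine ⟨w, fun h => ?_⟩
    obtain ⟨d, hd⟩ := mem_stab.1 (Finset.mem_filter.1 h).2
    rw [hw] at hd
    have h1 := congrFun hd (1 : Fin (k + 1))
    have h10 : (1 : Fin (k + 1)) ≠ 0 := Fin.ne_of_val_ne (by
      rw [Fin.val_one', Fin.val_zero, Nat.mod_eq_of_lt (by omega)]; omega)
    rw [Pi.single_eq_same, Pi.single_eq_of_ne h10] at h1
    exact one_ne_zero h1
  obtain ⟨C, hC⟩ : ∃ C, C = e * ρ w * e := ⟨_, rfl⟩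
  obtain ⟨A, hA⟩ : ∃ A, A = ∑ g ∈ P0, ρ g * e := ⟨_, rfl⟩
  have hval : ∀ g : G, e * ρ g * e = if g ∈ P0 then ρ g * e else C := fun g => by
    by_cases hg : g ∈ P0
    · rw [if_pos hg, ← hcomm g hg, mul_assoc, hee]
    · rw [if_neg hg, hC, hconst g w hg hw]
  obtain ⟨N, hN⟩ : ∃ N : ℕ, N = (Finset.univ.filter fun g : G => g ∉ P0).card := ⟨_, rfl⟩
  have hcardN : P0.card + N = Fintype.card G := by
    rw [hN, ← Finset.card_univ,
      ← Finset.card_filter_add_card_filter_not (s := (Finset.univ : Finset G)) (fun g => g ∈ P0)]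
    congr 1
    exact congrArg _ (by ext; simp)
  have hA0 : A + (N : ℂ) • C = 0 := by
    have h : e * (∑ g : G, ρ g) * e = 0 := by rw [sum_rho_eq_zero ρ hirr hne, mul_zero, zero_mul]
    rw [Finset.mul_sum, Finset.sum_mul, Finset.sum_congr rfl fun g _ => hval g, Finset.sum_ite,
      Finset.sum_const, ← hN, ← Nat.cast_smul_eq_nsmul ℂ] at h
    rw [← h, hA]
    congr 1
    exact Finset.sum_congr (by ext; simp) fun _ _ => rfl
  have hmem : ∀ g x : G, g ∈ P0 → (x ∈ P0 ↔ g * x ∈ P0) := fun g x hg => by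
    simp only [P0, Finset.mem_filter, Finset.mem_univ, true_and] at hg ⊢
    exact (Subgroup.mul_mem_cancel_left _ hg).symm
  have hAA : A * A = (P0.card : ℂ) • A := by
    have hga : ∀ g ∈ P0, ρ g * A = A := fun g hg => by
      rw [hA, Finset.mul_sum]
      refine Finset.sum_equiv (Equiv.mulLeft g) (fun x => hmem g x hg) fun x _ => ?_
      rw [← mul_assoc, ← map_mul]; rfl
    have hea : e * A = A := by
      rw [hA, Finset.mul_sum]
      exact Finset.sum_congr rfl fun g hg => by rw [← mul_assoc, ← hcomm g hg, mul_assoc, hee]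
    conv_lhs => lhs; rw [hA]
    rw [Finset.sum_mul, Finset.sum_congr rfl (g := fun _ => A) fun g hg => by rw [mul_assoc, hea, hga g hg],
      Finset.sum_const, ← Nat.cast_smul_eq_nsmul ℂ]
  -- the average of the conjugates of `e`
  obtain ⟨T, hT⟩ : ∃ T, T = ∑ g : G, ρ g * e * ρ g⁻¹ := ⟨_, rfl⟩
  obtain ⟨s, hs⟩ := schur ρ hirr T fun h => by
    rw [hT, Finset.mul_sum, Finset.sum_mul]
    refine Fintype.sum_equiv (Equiv.mulLeft h) _ _ fun g => ?_
    simp only [Equiv.coe_mulLeft, _root_.mul_inv_rev, map_mul, mul_assoc]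
    rw [← map_mul ρ h⁻¹ h, inv_mul_cancel, map_one, mul_one]
  obtain ⟨R, hR⟩ : ∃ R : ℕ, R = Module.finrank ℂ (LinearMap.range e) := ⟨_, rfl⟩
  have hR1 : 1 ≤ R := by
    rw [hR, Nat.one_le_iff_ne_zero, Ne, Submodule.finrank_eq_zero, LinearMap.range_eq_bot]
    exact fun h => hv0 (by rw [← hev, h]; rfl)
  have htrace : s * (Module.finrank ℂ V : ℂ) = (Fintype.card G : ℂ) * R := by
    have h := congrArg (LinearMap.trace ℂ V) hT
    rw [map_sum, hs, map_smul, LinearMap.trace_one, smul_eq_mul,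
      Finset.sum_congr rfl (g := fun _ => (R : ℂ)) fun g _ => by
        rw [LinearMap.trace_mul_comm, ← mul_assoc, ← map_mul, inv_mul_cancel, map_one, one_mul,
          trace_idem e hee, hR]] at h
    rw [h, Finset.sum_const, Finset.card_univ, nsmul_eq_mul]
  have heTe : s • e = (P0.card : ℂ) • e + (N : ℂ) • (C * C) := by
    have h : e * T * e = s • e := by rw [hs, mul_smul_comm, mul_one, smul_mul_assoc, hee]
    rw [← h, hT, Finset.mul_sum, Finset.sum_mul]
    have hterm : ∀ g : G, e * (ρ g * e * ρ g⁻¹) * e = if g ∈ P0 then e else C * C := fun g => by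
      have h' : e * (ρ g * e * ρ g⁻¹) * e = (e * ρ g * e) * (e * ρ g⁻¹ * e) := by
        conv_lhs => rw [← hee]
        simp only [mul_assoc]
        rw [← mul_assoc e e, hee, ← mul_assoc e e, hee]
      have hi : g⁻¹ ∈ P0 ↔ g ∈ P0 := by simp only [P0, Finset.mem_filter, Finset.mem_univ, true_and]; exact Subgroup.inv_mem_iff _
      rw [h', hval, hval]
      by_cases hg : g ∈ P0
      · rw [if_pos hg, if_pos hg, if_pos (hi.2 hg), hcomm g⁻¹ (hi.2 hg), mul_assoc, ← mul_assoc e e,
          hee, ← hcomm g⁻¹ (hi.2 hg), ← mul_assoc, ← map_mul, mul_inv_cancel, map_one, one_mul]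
      · rw [if_neg hg, if_neg hg, if_neg fun h => hg (hi.1 h)]
    rw [Finset.sum_congr rfl fun g _ => hterm g, Finset.sum_ite, Finset.sum_const, Finset.sum_const, ← hN,
      ← Nat.cast_smul_eq_nsmul ℂ, ← Nat.cast_smul_eq_nsmul ℂ]
    congr 3
    simp
  have hidx : Fintype.card G = qi (Fintype.card F) (k + 1) * P0.card := by
    have := pretransitive (F := F) (show 1 ≤ k by omega)
    have hP0 : P0.card = Nat.card (MulAction.stabilizer G (p0 (F := F) (k := k))) := by
      rw [Nat.card_eq_fintype_card]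
      exact (Fintype.card_subtype _).symm
    rw [← card_proj, ← MulAction.index_stabilizer_of_transitive G (p0 (F := F) (k := k)), hP0,
      Subgroup.index_mul_card, Nat.card_eq_fintype_card]
  have hP0pos : P0.card ≠ 0 := Finset.card_ne_zero.2 ⟨1, by simp [P0]⟩
  have hP0c : (P0.card : ℂ) ≠ 0 := Nat.cast_ne_zero.2 hP0pos
  have hN0 : (N : ℂ) ≠ 0 := by
    rw [hN]
    exact Nat.cast_ne_zero.2 (Finset.card_ne_zero.2 ⟨w, by simp [hw]⟩)
  have hCA : C = (-(N : ℂ)⁻¹) • A := by
    have : A = -((N : ℂ) • C) := eq_neg_of_add_eq_zero_left hA0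
    rw [this, smul_neg, ← neg_smul, smul_smul, neg_neg, inv_mul_cancel₀ hN0, one_smul]
  have hAe : A = (((s - P0.card) * N / P0.card : ℂ)) • e := by
    rw [hCA, smul_mul_smul_comm, hAA, smul_smul, smul_smul] at heTe
    have h2 : ((N : ℂ) * (-(N : ℂ)⁻¹ * -(N : ℂ)⁻¹) * P0.card) • A = (s - P0.card) • e := by
      rw [sub_smul, heTe, add_sub_cancel_left]
    have h3 := congrArg (fun X => ((N : ℂ) / P0.card) • X) h2
    simp only [smul_smul] at h3
    rw [show (N : ℂ) / P0.card * ((N : ℂ) * (-(N : ℂ)⁻¹ * -(N : ℂ)⁻¹) * P0.card) = 1 by field_simp,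
      one_smul] at h3
    rw [h3]
    congr 1
    ring
  have he0' : e ≠ 0 := fun h => hv0 (by rw [← hev, h]; rfl)
  obtain ⟨β, hβ⟩ : ∃ β : ℂ, β = (s - P0.card) * N / P0.card := ⟨_, rfl⟩
  rw [← hβ] at hAe
  rw [hAe, smul_mul_smul_comm, hee, smul_smul] at hAA
  have hb : β * β = P0.card * β := smul_left_injective ℂ he0' hAA
  have hcc : (Fintype.card G : ℂ) = qi (Fintype.card F) (k + 1) * P0.card := by exact_mod_cast hidx
  rcases mul_eq_mul_right_iff.1 (show β * β = (P0.card : ℂ) * β from hb) with h | h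
  · rw [hβ, div_eq_iff hP0c] at h
    have h1 : (N : ℂ) + P0.card = Fintype.card G := by exact_mod_cast (add_comm N P0.card).trans hcardN
    have h2 : (Module.finrank ℂ V : ℂ) * P0.card * Fintype.card G =
        (Fintype.card G : ℂ) * (R * N) := by
      linear_combination (-(Module.finrank ℂ V : ℂ)) * h + (N : ℂ) * htrace +
        (-(Module.finrank ℂ V : ℂ) * (P0.card : ℂ)) * h1
    have h3 : Fintype.card G * (Module.finrank ℂ V * P0.card) = Fintype.card G * (R * N) := by
      have : ((Fintype.card G * (Module.finrank ℂ V * P0.card) : ℕ) : ℂ) =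
          ((Fintype.card G * (R * N) : ℕ) : ℂ) := by
        push_cast
        linear_combination h2
      exact_mod_cast this
    have h4 := Nat.eq_of_mul_eq_mul_left Fintype.card_pos h3
    have h5 : (qi (Fintype.card F) (k + 1) - 1) * P0.card = N := by
      rw [Nat.sub_mul, one_mul, ← hidx, ← hcardN, Nat.add_sub_cancel_left]
    rw [← h5, ← mul_assoc] at h4
    rw [Nat.eq_of_mul_eq_mul_right (Nat.pos_of_ne_zero hP0pos) h4]
    exact Nat.le_mul_of_pos_left _ hR1
  · rw [hβ, div_eq_zero_iff, mul_eq_zero] at h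
    have hsP : s = P0.card := sub_eq_zero.1 ((h.resolve_right hP0c).resolve_right hN0)
    rw [hsP, hcc] at htrace
    have h3 : P0.card * Module.finrank ℂ V = P0.card * (qi (Fintype.card F) (k + 1) * R) := by
      have : ((P0.card * Module.finrank ℂ V : ℕ) : ℂ) =
          ((P0.card * (qi (Fintype.card F) (k + 1) * R) : ℕ) : ℂ) := by
        push_cast
        linear_combination htrace
      exact_mod_cast this
    rw [Nat.eq_of_mul_eq_mul_left (Nat.pos_of_ne_zero hP0pos) h3]
    exact le_trans (Nat.sub_le _ _) (Nat.le_mul_of_pos_right _ hR1)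

/-! ### The class of transvections -/

local notation "SLn" => Matrix.SpecialLinearGroup (Fin (k + 1)) F

theorem card_class (hk : 2 ≤ k) :
    Nat.card {g : Matrix.SpecialLinearGroup (Fin (k + 1)) F // IsConj (qv (1 : Fin k → F)) g} =
      qi (Fintype.card F) (k + 1) * (Fintype.card F ^ k - 1) := by
  classical
  have := pretransitive (F := F) (show 1 ≤ k by omega)
  have hone : (1 : Fin k → F) ≠ 0 := fun h => one_ne_zero (congrFun h ⟨0, by omega⟩)
  choose sec hsec using fun x : ℙ F (Fin (k + 1) → F) => MulAction.exists_smul_eq SLn p0 x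
  have hconj : ∀ (x : ℙ F (Fin (k + 1) → F)) (r : {r : Fin k → F // r ≠ 0}),
      IsConj (qv (1 : Fin k → F)) (sec x * qv r.1 * (sec x)⁻¹) := fun x r =>
    (qv_isConj hk hone r.2).trans (isConj_iff.2 ⟨sec x, rfl⟩)
  have hbij : Function.Bijective fun xr : ℙ F (Fin (k + 1) → F) × {r : Fin k → F // r ≠ 0} =>
      (⟨sec xr.1 * qv xr.2.1 * (sec xr.1)⁻¹, hconj xr.1 xr.2⟩ :
        {g : SLn // IsConj (qv (1 : Fin k → F)) g}) := by
    constructor
    · rintro ⟨x, r, hr⟩ ⟨x', r', hr'⟩ h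
      have h' : sec x * qv r * (sec x)⁻¹ = sec x' * qv r' * (sec x')⁻¹ := congrArg Subtype.val h
      obtain ⟨u, hu⟩ : ∃ u : SLn, u = (sec x')⁻¹ * sec x := ⟨_, rfl⟩
      have hu' : u * qv r = qv r' * u := by
        have := congrArg (fun g => (sec x')⁻¹ * g * sec x) h'
        rw [hu]
        calc (sec x')⁻¹ * sec x * qv r = (sec x')⁻¹ * (sec x * qv r * (sec x)⁻¹) * sec x := by group
          _ = (sec x')⁻¹ * (sec x' * qv r' * (sec x')⁻¹) * sec x := this
          _ = qv r' * ((sec x')⁻¹ * sec x) := by group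
      obtain ⟨i, hi⟩ := Function.ne_iff.1 hr
      have hstab : u ∈ MulAction.stabilizer SLn (p0 (F := F) (k := k)) := by
        rw [mem_stab]
        have h2 := congrArg (fun g : SLn => g.1 *ᵥ (Pi.single i.succ 1 : Fin (k + 1) → F)) hu'
        simp only [Matrix.SpecialLinearGroup.coe_mul, ← Matrix.mulVec_mulVec, qv_eq_one_add,
          Matrix.add_mulVec, Matrix.one_mulVec, Matrix.vecMulVec_mulVec, op_smul_eq_smul,
          dotProduct_single, Fin.cons_succ, mul_one, Matrix.mulVec_add, Matrix.mulVec_smul] at h2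
        refine ⟨((Fin.cons 0 r' : Fin (k + 1) → F) ⬝ᵥ (u.1 *ᵥ Pi.single i.succ 1)) / r i, ?_⟩
        have h3 := add_left_cancel h2
        calc u.1 *ᵥ Pi.single 0 1 = (r i)⁻¹ • (r i • (u.1 *ᵥ Pi.single 0 1)) := by
              rw [smul_smul, inv_mul_cancel₀ (by simpa using hi), one_smul]
          _ = _ := by
              rw [h3, smul_smul, ← Pi.single_smul, smul_eq_mul, mul_one, div_eq_inv_mul]
      have hxx : x = x' := by
        have h3 := MulAction.mem_stabilizer_iff.1 hstab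
        rw [hu, mul_smul, hsec, inv_smul_eq_iff, hsec] at h3
        exact h3
      subst hxx
      rw [inv_mul_cancel] at hu
      rw [hu, one_mul, mul_one] at hu'
      have hrr : r = r' := funext fun j => by
        have := congrArg (fun g : SLn => g.1 0 j.succ) hu'
        simpa [qv_val, mk_zero_succ] using this
      subst hrr
      rfl
    · rintro ⟨g, hg⟩
      obtain ⟨c, rfl⟩ := isConj_iff.1 hg
      obtain ⟨p, hp⟩ : ∃ p : SLn, p = (sec (c • p0 (F := F) (k := k)))⁻¹ * c := ⟨_, rfl⟩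
      have hps : p ∈ MulAction.stabilizer SLn (p0 (F := F) (k := k)) := by
        rw [MulAction.mem_stabilizer_iff, hp, mul_smul, inv_smul_eq_iff, hsec]
      obtain ⟨d, hd⟩ := mem_stab.1 hps
      obtain ⟨r, B, h, hpe⟩ := exists_pm hd
      have hu : IsUnit B := (Matrix.isUnit_iff_isUnit_det B).2 (isUnit_iff_ne_zero.2 fun h0 => by
        rw [h0, mul_zero] at h; exact zero_ne_one h)
      obtain ⟨r', hr'⟩ := Matrix.vecMul_surjective_iff_isUnit.2 hu (d • (1 : Fin k → F))
      have hr'0 : r' ≠ 0 := fun h0 => by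
        have hd0 : d ≠ 0 := fun hd0 => by rw [hd0, zero_mul] at h; exact zero_ne_one h
        rw [h0] at hr'
        simp only [Matrix.zero_vecMul] at hr'
        exact smul_ne_zero hd0 hone hr'.symm
      refine ⟨(c • p0, ⟨r', hr'0⟩), Subtype.ext ?_⟩
      have hkey : p * qv 1 = qv r' * p := by
        rw [hpe]
        refine Subtype.ext ?_
        show mk d r B * mk 1 1 1 = mk 1 r' 1 * mk d r B
        rw [mk_mul, mk_mul, mul_one, one_mul, mul_one, one_mul, Matrix.vecMul_one, one_smul]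
        congr 1
        rw [← hr', add_comm]
      have h' : c = sec (c • p0) * p := by rw [hp, mul_inv_cancel_left]
      show sec (c • p0) * qv r' * (sec (c • p0))⁻¹ = c * qv 1 * c⁻¹
      conv_rhs => rw [h', mul_assoc _ p, hkey]
      simp only [_root_.mul_inv_rev, mul_assoc, mul_inv_cancel_left]
  have h0 : Fintype.card {r : Fin k → F // r ≠ 0} = Fintype.card F ^ k - 1 := by
    simp [Fintype.card_subtype_compl]
  rw [← Nat.card_congr (Equiv.ofBijective _ hbij), Nat.card_prod, card_proj, Nat.card_eq_fintype_card, h0]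

/-- The degree divides the product of the class size and the character value of a transvection. -/
theorem degree_dvd (hk : 2 ≤ k) {ψ : AddChar F ℂ} (hψ : ψ ≠ 1) [Nontrivial V]
    (hirr : ∀ S : Submodule ℂ V, (∀ g, ∀ x ∈ S, ρ g x ∈ S) → S = ⊥ ∨ S = ⊤)
    (h1 : mult ρ ψ 1 = 1) :
    Module.finrank ℂ V ∣ qi (Fintype.card F) (k + 1) * (Fintype.card F ^ k - 1) * Fintype.card F ^ k := by
  classical
  let Cl : Finset SLn := Finset.univ.filter fun g => IsConj (qv (1 : Fin k → F)) g
  have hcard : Cl.card = qi (Fintype.card F) (k + 1) * (Fintype.card F ^ k - 1) := by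
    rw [← card_class hk, Nat.card_eq_fintype_card, Fintype.card_subtype]
  obtain ⟨Y, hY⟩ : ∃ Y, Y = ∑ g ∈ Cl, ρ g := ⟨_, rfl⟩
  have hint : IsIntegral ℤ Y := by
    let φ := MonoidAlgebra.lift ℤ (Module.End ℂ V) SLn ρ
    have hY' : Y = φ (∑ g ∈ Cl, MonoidAlgebra.single g 1) := by
      rw [map_sum, hY]
      exact Finset.sum_congr rfl fun g _ => by rw [MonoidAlgebra.lift_single, one_smul]
    rw [hY']
    exact (IsIntegral.of_finite ℤ _).map φ
  obtain ⟨s, hs⟩ := schur ρ hirr Y fun h => by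
    rw [hY, Finset.mul_sum, Finset.sum_mul]
    refine Finset.sum_equiv (MulAut.conj h).toEquiv (fun x => ?_) fun x _ => ?_
    · simp only [Cl, Finset.mem_filter, Finset.mem_univ, true_and, MulEquiv.toEquiv_eq_coe,
        EquivLike.coe_coe, MulAut.conj_apply]
      exact ⟨fun hx => hx.trans (isConj_iff.2 ⟨h, rfl⟩), fun hx => hx.trans (isConj_iff.2 ⟨h, rfl⟩).symm⟩
    · rw [MulEquiv.toEquiv_eq_coe, EquivLike.coe_coe, MulAut.conj_apply, ← map_mul, ← map_mul,
        inv_mul_cancel_right]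
  have hs' : IsIntegral ℤ s := by
    have hinj : Function.Injective (algebraMap ℂ (Module.End ℂ V)) := (algebraMap ℂ (Module.End ℂ V)).injective
    refine (isIntegral_algebraMap_iff hinj).1 ?_
    rw [Algebra.algebraMap_eq_smul_one, ← hs]
    exact hint
  have htr : s * (Module.finrank ℂ V : ℂ) = (Cl.card : ℂ) * ρ.character (qv 1) := by
    have h := congrArg (LinearMap.trace ℂ V) hY
    rw [map_sum, hs, map_smul, LinearMap.trace_one, smul_eq_mul,
      Finset.sum_congr rfl (g := fun _ => ρ.character (qv 1)) fun g hg => by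
        obtain ⟨c, rfl⟩ := isConj_iff.1 (Finset.mem_filter.1 hg).2
        exact ρ.char_conj _ _] at h
    rw [h, Finset.sum_const, nsmul_eq_mul]
  have hD : (Module.finrank ℂ V : ℂ) ≠ 0 := Nat.cast_ne_zero.2 Module.finrank_pos.ne'
  have hv : ρ.character (qv 1) = (Module.finrank ℂ V : ℂ) - (Fintype.card F : ℂ) ^ k := by
    have hq : 1 ≤ Fintype.card F ^ k := Nat.one_le_pow _ _ Fintype.card_pos
    rw [char_qv_eq ρ hk hψ, h1, finrank_eq ρ hk hψ, h1, mul_one, Nat.cast_add, Nat.cast_sub hq]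
    push_cast
    ring
  obtain ⟨z, hz⟩ : ∃ z : ℤ, s = z := by
    refine (IsIntegral.exists_int_iff_exists_rat hs').1
      ⟨((Cl.card : ℚ) * ((Module.finrank ℂ V : ℚ) - (Fintype.card F : ℚ) ^ k)) / Module.finrank ℂ V, ?_⟩
    push_cast
    rw [eq_div_iff hD, htr, hv]
  rw [hz, hv] at htr
  have hzi : z * (Module.finrank ℂ V : ℤ) =
      (Cl.card : ℤ) * ((Module.finrank ℂ V : ℤ) - (Fintype.card F : ℤ) ^ k) := by exact_mod_cast htr
  have hdvd : (Module.finrank ℂ V : ℤ) ∣ ((Cl.card * Fintype.card F ^ k : ℕ) : ℤ) :=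
    ⟨(Cl.card : ℤ) - z, by push_cast; linear_combination hzi⟩
  rw [← hcard]
  exact Int.natCast_dvd_natCast.1 hdvd

end Cfsg.Agent.Small.MinDeg
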