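import Cfsg.Agent.Lib.Small.SLnMinDeg.Coord

/-!
Restriction of a representation of `SL_{k+1}` to the translation group of a point stabiliser: the
multiplicities of its characters and the fixed space as a representation of `SL_k`.
-/

set_option autoImplicit false
set_option linter.unusedSectionVars false

namespace Cfsg.Agent.Small.MinDeg

open Matrix Finset Cfsg.Agent.Small.Generation

variable {F : Type*} [Field F] [Fintype F] [DecidableEq F] {k : ℕ}
variable {V : Type*} [AddCommGroup V] [Module ℂ V]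
variable (ρ : Representation ℂ (Matrix.SpecialLinearGroup (Fin (k + 1)) F) V) (ψ : AddChar F ℂ)

/-- The projection on the vectors on which the translations act by the character `c`. -/
noncomputable def E (c : Fin k → F) : Module.End ℂ V :=
  ((Fintype.card F : ℂ) ^ k)⁻¹ • ∑ r : Fin k → F, ψ (-(r ⬝ᵥ c)) • ρ (qv r)

theorem qk_ne : ((Fintype.card F : ℂ) ^ k) ≠ 0 := pow_ne_zero _ (Nat.cast_ne_zero.2 Fintype.card_ne_zero)

variable {ψ}

theorem sum_psi (hψ : ψ ≠ 1) (c : Fin k → F) :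
    ∑ r : Fin k → F, ψ (r ⬝ᵥ c) = if c = 0 then (Fintype.card F : ℂ) ^ k else 0 := by
  by_cases hc : c = 0
  · subst hc
    simp
  rw [if_neg hc]
  obtain ⟨x, hx⟩ := AddChar.ne_one_iff.1 hψ
  obtain ⟨i, hi⟩ := Function.ne_iff.1 hc
  let φ : AddChar (Fin k → F) ℂ := ψ.compAddMonoidHom
    (AddMonoidHom.mk' (fun r => r ⬝ᵥ c) fun r s => add_dotProduct r s c)
  have hne : φ ≠ 1 := AddChar.ne_one_iff.2 ⟨Pi.single i (x / c i), by
    simp only [φ, AddChar.compAddMonoidHom_apply, AddMonoidHom.mk'_apply, single_dotProduct]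
    rwa [div_mul_cancel₀ _ hi]⟩
  exact AddChar.sum_eq_zero_of_ne_one hne

theorem sum_psi_neg (hψ : ψ ≠ 1) (c : Fin k → F) :
    ∑ r : Fin k → F, ψ (-(r ⬝ᵥ c)) = if c = 0 then (Fintype.card F : ℂ) ^ k else 0 := by
  have := sum_psi hψ (-c)
  simpa [dotProduct_neg] using this

theorem qv_mul_E (c r : Fin k → F) : ρ (qv r) * E ρ ψ c = ψ (r ⬝ᵥ c) • E ρ ψ c := by
  simp only [E, mul_smul_comm, Finset.mul_sum, Finset.smul_sum, smul_smul, ← map_mul, qv_add]
  refine Fintype.sum_equiv (Equiv.addLeft r) _ _ fun s => ?_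
  simp only [Equiv.coe_addLeft]
  congr 1
  rw [mul_comm (ψ (r ⬝ᵥ c)), mul_assoc, ← AddChar.map_add_eq_mul, add_dotProduct]
  congr 2
  ring

theorem E_mul_E (hψ : ψ ≠ 1) (c c' : Fin k → F) :
    E ρ ψ c * E ρ ψ c' = if c = c' then E ρ ψ c else 0 := by
  nth_rewrite 1 [E]
  rw [smul_mul_assoc, Finset.sum_mul]
  simp only [smul_mul_assoc, qv_mul_E, smul_smul, ← AddChar.map_add_eq_mul, ← Finset.sum_smul]
  have h : ∀ r : Fin k → F, -(r ⬝ᵥ c) + r ⬝ᵥ c' = r ⬝ᵥ (c' - c) := fun r => by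
    rw [dotProduct_sub]; ring
  simp only [h, sum_psi hψ, sub_eq_zero]
  by_cases hc : c = c'
  · subst hc
    simp
  · simp [hc, Ne.symm hc]

theorem sum_E (hψ : ψ ≠ 1) : ∑ c : Fin k → F, E ρ ψ c = 1 := by
  simp only [E, ← Finset.smul_sum]
  rw [Finset.sum_comm]
  simp only [← Finset.sum_smul]
  have h : ∀ r : Fin k → F, ∑ c : Fin k → F, ψ (-(r ⬝ᵥ c)) = if r = 0 then (Fintype.card F : ℂ) ^ k else 0 :=
    fun r => by rw [← sum_psi_neg hψ r]; simp only [dotProduct_comm]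
  simp only [h, ite_smul, zero_smul, Finset.sum_ite_eq', Finset.mem_univ, if_true, qv_zero, map_one,
    smul_smul, inv_mul_cancel₀ qk_ne, one_smul]

variable [FiniteDimensional ℂ V]

theorem trace_idem (e : Module.End ℂ V) (h : e * e = e) :
    LinearMap.trace ℂ V e = (Module.finrank ℂ (LinearMap.range e) : ℂ) := by
  have hp : LinearMap.IsProj (LinearMap.range e) e := by
    refine ⟨fun x => LinearMap.mem_range_self _ x, ?_⟩
    rintro _ ⟨x, rfl⟩
    exact LinearMap.congr_fun h x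
  exact hp.trace

theorem trace_rho (g : Matrix.SpecialLinearGroup (Fin (k + 1)) F) :
    LinearMap.trace ℂ V (ρ g) = ρ.character g := rfl

theorem char_qv (hk : 2 ≤ k) {r : Fin k → F} (hr : r ≠ 0) : ρ.character (qv r) = ρ.character (qv 1) := by
  have h1 : (1 : Fin k → F) ≠ 0 := fun h => one_ne_zero (congrFun h ⟨0, by omega⟩)
  obtain ⟨u, hu⟩ := isConj_iff.1 (qv_isConj hk hr h1)
  rw [← hu, ρ.char_conj]

variable (ψ) in
/-- The multiplicity of the character `c`. -/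
noncomputable def mult (c : Fin k → F) : ℕ := Module.finrank ℂ (LinearMap.range (E ρ ψ c))

theorem trace_E (hψ : ψ ≠ 1) (c : Fin k → F) :
    LinearMap.trace ℂ V (E ρ ψ c) = (mult ρ ψ c : ℂ) :=
  trace_idem _ (by rw [E_mul_E ρ hψ, if_pos rfl])

theorem mult_formula (hk : 2 ≤ k) (hψ : ψ ≠ 1) (c : Fin k → F) :
    (mult ρ ψ c : ℂ) * (Fintype.card F : ℂ) ^ k = (Module.finrank ℂ V : ℂ) - ρ.character (qv 1) +
      (if c = 0 then (Fintype.card F : ℂ) ^ k * ρ.character (qv 1) else 0) := by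
  rw [← trace_E ρ hψ, E, map_smul, map_sum, smul_eq_mul, mul_comm, ← mul_assoc,
    mul_inv_cancel₀ qk_ne, one_mul]
  simp only [map_smul, smul_eq_mul, trace_rho]
  have h : ∀ r : Fin k → F, ψ (-(r ⬝ᵥ c)) * ρ.character (qv r) = ψ (-(r ⬝ᵥ c)) * ρ.character (qv 1) +
      if r = 0 then (Module.finrank ℂ V : ℂ) - ρ.character (qv 1) else 0 := fun r => by
    by_cases hr : r = 0
    · subst hr
      simp [qv_zero]
    · rw [if_neg hr, add_zero, char_qv ρ hk hr]
  simp only [h, Finset.sum_add_distrib, ← Finset.sum_mul, sum_psi_neg hψ, Finset.sum_ite_eq',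
    Finset.mem_univ, if_true]
  split_ifs <;> ring

theorem mult_eq (hk : 2 ≤ k) (hψ : ψ ≠ 1) {c : Fin k → F} (hc : c ≠ 0) : mult ρ ψ c = mult ρ ψ 1 := by
  have h1 : (1 : Fin k → F) ≠ 0 := fun h => one_ne_zero (congrFun h ⟨0, by omega⟩)
  have a := mult_formula ρ hk hψ c
  have b := mult_formula ρ hk hψ (1 : Fin k → F)
  rw [if_neg hc] at a
  rw [if_neg h1, ← a] at b
  exact_mod_cast (mul_right_cancel₀ qk_ne b).symm

theorem char_qv_eq (hk : 2 ≤ k) (hψ : ψ ≠ 1) :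
    ρ.character (qv 1) = (mult ρ ψ 0 : ℂ) - mult ρ ψ 1 := by
  have h1 : (1 : Fin k → F) ≠ 0 := fun h => one_ne_zero (congrFun h ⟨0, by omega⟩)
  have a := mult_formula ρ hk hψ 0
  have b := mult_formula ρ hk hψ (1 : Fin k → F)
  rw [if_pos rfl] at a
  rw [if_neg h1, add_zero] at b
  refine mul_left_cancel₀ (qk_ne (F := F) (k := k)) ?_
  linear_combination b - a

theorem finrank_eq (hk : 2 ≤ k) (hψ : ψ ≠ 1) :
    Module.finrank ℂ V = mult ρ ψ 0 + (Fintype.card F ^ k - 1) * mult ρ ψ 1 := by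
  have h := congrArg (LinearMap.trace ℂ V) (sum_E ρ hψ)
  rw [map_sum, LinearMap.trace_one] at h
  simp only [trace_E ρ hψ] at h
  have h' : ∑ c : Fin k → F, mult ρ ψ c = Module.finrank ℂ V := by exact_mod_cast h
  rw [← Finset.sum_erase_add _ _ (Finset.mem_univ (0 : Fin k → F)),
    Finset.sum_congr rfl (fun c hc => mult_eq ρ hk hψ (Finset.ne_of_mem_erase hc)), Finset.sum_const,
    Finset.card_erase_of_mem (Finset.mem_univ _), Finset.card_univ, Fintype.card_fun, Fintype.card_fin,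
    smul_eq_mul] at h'
  omega

theorem trivial_of_mult (hk : 2 ≤ k) (hψ : ψ ≠ 1) (h : mult ρ ψ 1 = 0)
    (g : Matrix.SpecialLinearGroup (Fin (k + 1)) F) : ρ g = 1 := by
  have h1 : (1 : Fin k → F) ≠ 0 := fun h => one_ne_zero (congrFun h ⟨0, by omega⟩)
  have hz : ∀ c : Fin k → F, c ≠ 0 → E ρ ψ c = 0 := fun c hc =>
    LinearMap.range_eq_bot.1 (Submodule.finrank_eq_zero.1 ((mult_eq ρ hk hψ hc).trans h))
  have he : E ρ ψ 0 = 1 := by
    rw [← sum_E ρ hψ]
    exact (Finset.sum_eq_single (0 : Fin k → F) (fun c _ hc => hz c hc)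
      (fun h => absurd (Finset.mem_univ _) h)).symm
  have hq : ρ (qv 1) = 1 := by
    have := qv_mul_E ρ (ψ := ψ) 0 1
    rw [he, mul_one, dotProduct_zero, AddChar.map_zero_eq_one, one_smul] at this
    exact this
  have ht := eq_top_of_qv hk (MonoidHom.ker ρ) h1 hq
  exact MonoidHom.mem_ker.1 (ht ▸ Subgroup.mem_top g : g ∈ MonoidHom.ker ρ)

omit [FiniteDimensional ℂ V] in
theorem E_comm (d : F) (B : Matrix (Fin k) (Fin k) F) (h : d * B.det = 1) {c c' : Fin k → F}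
    (hc : B *ᵥ c = d • c') : ρ (pm d 0 B h) * E ρ ψ c = E ρ ψ c' * ρ (pm d 0 B h) := by
  have hd : d ≠ 0 := fun h0 => by rw [h0, zero_mul] at h; exact zero_ne_one h
  have hB : Function.Injective fun r : Fin k → F => d⁻¹ • (r ᵥ* B) := by
    intro r s hrs
    have hu : IsUnit B := by
      rw [Matrix.isUnit_iff_isUnit_det]
      exact isUnit_iff_ne_zero.2 fun h0 => by rw [h0, mul_zero] at h; exact zero_ne_one h
    exact Matrix.vecMul_injective_iff_isUnit.2 hu (smul_right_injective _ (inv_ne_zero hd) hrs)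
  rw [E, E, mul_smul_comm, smul_mul_assoc, Finset.mul_sum, Finset.sum_mul]
  congr 1
  refine (Fintype.sum_equiv (Equiv.ofBijective _ (Finite.injective_iff_bijective.1 hB)) _ _
    fun r => ?_).symm
  rw [Equiv.ofBijective_apply, smul_mul_assoc, mul_smul_comm, ← map_mul, ← map_mul,
    pm_comm d B h (r := d⁻¹ • (r ᵥ* B)) (r' := r) (by rw [smul_smul, mul_inv_cancel₀ hd, one_smul])]
  congr 2
  rw [smul_dotProduct, ← Matrix.dotProduct_mulVec, hc, dotProduct_smul, smul_eq_mul, smul_eq_mul,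
    inv_mul_cancel_left₀ hd]

omit [FiniteDimensional ℂ V] in
theorem emb_comm (a : Matrix.SpecialLinearGroup (Fin k) F) (c : Fin k → F) :
    ρ (emb a) * E ρ ψ c = E ρ ψ (a.1 *ᵥ c) * ρ (emb a) :=
  E_comm ρ 1 a.1 (by rw [a.2, mul_one]) (by rw [one_smul])

omit [FiniteDimensional ℂ V] in
theorem emb_comm_zero (a : Matrix.SpecialLinearGroup (Fin k) F) :
    ρ (emb a) * E ρ ψ 0 = E ρ ψ 0 * ρ (emb a) := by
  rw [emb_comm, Matrix.mulVec_zero]

theorem scal {c : Fin k → F} (hψ : ψ ≠ 1) (h1 : mult ρ ψ c = 1)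
    {x : Matrix.SpecialLinearGroup (Fin (k + 1)) F} (hx : Commute (ρ x) (E ρ ψ c)) :
    ∃ l : ℂ, l ≠ 0 ∧ ρ x * E ρ ψ c = l • E ρ ψ c := by
  obtain ⟨v, hv0, hspan⟩ := finrank_eq_one_iff'.1 h1
  have hidem : ∀ y, E ρ ψ c (E ρ ψ c y) = E ρ ψ c y := fun y => by
    have := LinearMap.congr_fun (E_mul_E ρ hψ c c) y
    rwa [if_pos rfl] at this
  have hmem : ρ x v.1 ∈ LinearMap.range (E ρ ψ c) := by
    obtain ⟨y, hy⟩ := v.2
    exact ⟨ρ x y, by rw [← hy]; exact (LinearMap.congr_fun hx.eq y).symm⟩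
  obtain ⟨l, hl⟩ := hspan ⟨_, hmem⟩
  have hl' : l • v.1 = ρ x v.1 := congrArg Subtype.val hl
  refine ⟨l, fun h0 => hv0 (Subtype.ext ?_), LinearMap.ext fun y => ?_⟩
  · rw [h0, zero_smul] at hl'
    calc v.1 = ρ x⁻¹ (ρ x v.1) := by
          rw [← Module.End.mul_apply, ← map_mul, inv_mul_cancel, map_one, Module.End.one_apply]
      _ = 0 := by rw [← hl', map_zero]
  · obtain ⟨a, ha⟩ := hspan ⟨_, LinearMap.mem_range_self (E ρ ψ c) y⟩
    have ha' : a • v.1 = E ρ ψ c y := congrArg Subtype.val ha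
    rw [Module.End.mul_apply, LinearMap.smul_apply, ← ha', map_smul, ← hl', smul_comm]

theorem comm_fix {c : Fin k → F} (hψ : ψ ≠ 1) (h1 : mult ρ ψ c = 1)
    {x y t : Matrix.SpecialLinearGroup (Fin (k + 1)) F} (hx : Commute (ρ x) (E ρ ψ c))
    (hy : Commute (ρ y) (E ρ ψ c)) (he : x * y = t * (y * x)) : ρ t * E ρ ψ c = E ρ ψ c := by
  obtain ⟨a, ha0, ha⟩ := scal ρ hψ h1 hx
  obtain ⟨b, hb0, hb⟩ := scal ρ hψ h1 hy
  have hl : ρ (x * y) * E ρ ψ c = (b * a) • E ρ ψ c := by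
    rw [map_mul, mul_assoc, hb, mul_smul_comm, ha, smul_smul]
  have hr : ρ (y * x) * E ρ ψ c = (a * b) • E ρ ψ c := by
    rw [map_mul, mul_assoc, ha, mul_smul_comm, hb, smul_smul]
  rw [he, map_mul, mul_assoc, hr, mul_smul_comm, mul_comm b a] at hl
  exact smul_right_injective _ (mul_ne_zero ha0 hb0) hl

variable (ψ) in
/-- The fixed space of the translations as a representation of `SL_k`. -/
noncomputable def sub : Representation ℂ (Matrix.SpecialLinearGroup (Fin k) F)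
    ↥(LinearMap.range (E ρ ψ 0)) where
  toFun a := (ρ (emb a)).restrict (p := LinearMap.range (E ρ ψ 0)) (q := LinearMap.range (E ρ ψ 0)) (by
    rintro _ ⟨y, rfl⟩
    exact ⟨ρ (emb a) y, (LinearMap.congr_fun (emb_comm_zero ρ a) y).symm⟩)
  map_one' := LinearMap.ext fun v => Subtype.ext (by simp [LinearMap.restrict_apply])
  map_mul' a b := LinearMap.ext fun v => Subtype.ext (by simp [LinearMap.restrict_apply])

omit [FiniteDimensional ℂ V] in
theorem sub_apply (a : Matrix.SpecialLinearGroup (Fin k) F) (v : ↥(LinearMap.range (E ρ ψ 0))) :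
    ((sub ρ ψ a v : ↥(LinearMap.range (E ρ ψ 0))) : V) = ρ (emb a) v.1 := rfl

theorem char_sub (hψ : ψ ≠ 1) (a : Matrix.SpecialLinearGroup (Fin k) F) :
    (sub ρ ψ).character a = LinearMap.trace ℂ V (ρ (emb a) * E ρ ψ 0) := by
  let π : V →ₗ[ℂ] ↥(LinearMap.range (E ρ ψ 0)) := (E ρ ψ 0).rangeRestrict
  let ι : ↥(LinearMap.range (E ρ ψ 0)) →ₗ[ℂ] V := (ρ (emb a)).comp (LinearMap.range (E ρ ψ 0)).subtype
  have he : ρ (emb a) * E ρ ψ 0 = ι.comp π := LinearMap.ext fun v => rfl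
  have hs : sub ρ ψ a = π.comp ι := by
    refine LinearMap.ext fun v => Subtype.ext ?_
    rw [sub_apply]
    show ρ (emb a) v.1 = E ρ ψ 0 (ρ (emb a) v.1)
    obtain ⟨y, hy⟩ := v.2
    rw [← hy, ← Module.End.mul_apply, ← Module.End.mul_apply, ← mul_assoc, ← emb_comm_zero, mul_assoc,
      E_mul_E ρ hψ, if_pos rfl]
  show LinearMap.trace ℂ _ (sub ρ ψ a) = _
  rw [hs, he, LinearMap.trace_comp_comm']

omit [FiniteDimensional ℂ V] in
theorem P_fixed {v : ↥(LinearMap.range (E ρ ψ 0))} (hv : ∀ a, sub ρ ψ a v = v)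
    (r : Fin k → F) (B : Matrix (Fin k) (Fin k) F) (h : 1 * B.det = 1) :
    ρ (pm 1 r B h) v.1 = v.1 := by
  have hq : ρ (qv r) v.1 = v.1 := by
    obtain ⟨y, hy⟩ := v.2
    have := LinearMap.congr_fun (qv_mul_E ρ (ψ := ψ) 0 r) y
    rw [Module.End.mul_apply, dotProduct_zero, AddChar.map_zero_eq_one, one_smul, hy] at this
    exact this
  obtain ⟨b, hb⟩ : ∃ b : Matrix.SpecialLinearGroup (Fin k) F, b.1 = B :=
    ⟨⟨B, by rwa [one_mul] at h⟩, rfl⟩
  have he : pm 1 r B h = emb b * qv r := Subtype.ext (by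
    show mk 1 r B = mk 1 0 b.1 * mk 1 r 1
    rw [mk_mul, hb, one_mul, one_smul, mul_one, Matrix.zero_vecMul, add_zero])
  rw [he, map_mul, Module.End.mul_apply, hq, ← sub_apply, hv]

end Cfsg.Agent.Small.MinDeg
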