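import Cfsg.Agent.Lib.Small.SLnMinDeg.Main
import Cfsg.Agent.Lib.Local.FS.SimplePSL3
import Cfsg.Agent.Lib.Char.Basic

/-!
Permutation representations of `SL_{k+1}(q)`: the minimal index of a proper subgroup.
-/

set_option autoImplicit false
set_option linter.unusedSectionVars false

namespace Cfsg.Agent.Small.MinDeg

open Matrix Finset Cfsg.Agent.Small.Generation MulAction
open scoped LinearAlgebra.Projectivization

variable {F : Type*} [Field F] [Fintype F] [DecidableEq F] {k : ℕ}

/-- The bound for a representation space in any universe. -/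
theorem bound' (hk : 2 ≤ k) (hexc : ¬ Exc k (Fintype.card F)) {V : Type*} [AddCommGroup V] [Module ℂ V]
    [FiniteDimensional ℂ V] (ρ : Representation ℂ (Matrix.SpecialLinearGroup (Fin (k + 1)) F) V)
    (hne : ∃ g, ρ g ≠ 1) : qi (Fintype.card F) (k + 1) - 1 ≤ Module.finrank ℂ V := by
  obtain ⟨e⟩ : Nonempty (V ≃ₗ[ℂ] (Fin (Module.finrank ℂ V) → ℂ)) :=
    ⟨(Module.finBasis ℂ V).equivFun⟩
  refine le_of_le_of_eq (bound hk hexc _ (Char.repTransport ρ e) ?_) (Module.finrank_fin_fun ℂ)
  obtain ⟨g, hg⟩ := hne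
  refine ⟨g, fun h => hg (LinearMap.ext fun v => e.injective ?_)⟩
  have := LinearMap.congr_fun h (e v)
  rwa [Char.repTransport_apply, e.symm_apply_apply] at this

theorem mult_one_ne (hk : 2 ≤ k) {V : Type*} [AddCommGroup V] [Module ℂ V]
    [FiniteDimensional ℂ V] (ρ : Representation ℂ (Matrix.SpecialLinearGroup (Fin (k + 1)) F) V)
    {ψ : AddChar F ℂ} (hψ : ψ ≠ 1) (hne : ∃ g, ρ g ≠ 1) : mult ρ ψ 1 ≠ 0 := fun h0 => by
  obtain ⟨g, hg⟩ := hne
  exact hg (trivial_of_mult ρ hk hψ h0 g)

theorem exists_psi' : ∃ ψ : AddChar F ℂ, ψ ≠ 1 := by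
  obtain ⟨ψ, hψ0⟩ := AddChar.exists_apply_ne_zero.2 (one_ne_zero : (1 : F) ≠ 0)
  exact ⟨ψ, fun h => hψ0 (by rw [h]; exact AddChar.one_apply _)⟩

section Zero

variable {G : Type*} [Group G] (X : Type*) [Fintype X] [MulAction G X]

/-- The functions of sum zero. -/
def zs : Submodule ℂ (X → ℂ) where
  carrier := {f | ∑ x, f x = 0}
  zero_mem' := by simp
  add_mem' {a b} ha hb := by simp only [Set.mem_ofPred_eq, Pi.add_apply, Finset.sum_add_distrib] at ha hb ⊢
                             rw [ha, hb, add_zero]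
  smul_mem' c a ha := by simp only [Set.mem_ofPred_eq, Pi.smul_apply, smul_eq_mul, ← Finset.mul_sum] at ha ⊢
                         rw [ha, mul_zero]

theorem mem_zs {f : X → ℂ} : f ∈ zs X ↔ ∑ x, f x = 0 := Iff.rfl

theorem sum_translate (g : G) (f : X → ℂ) : ∑ x, f (g⁻¹ • x) = ∑ x, f x :=
  Fintype.sum_equiv (MulAction.toPerm g⁻¹) _ _ fun _ => rfl

/-- The permutation representation on functions of sum zero. -/
def zrep (G : Type*) [Group G] (X : Type*) [Fintype X] [MulAction G X] : Representation ℂ G ↥(zs X) where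
  toFun g :=
    { toFun := fun f => ⟨fun x => f.1 (g⁻¹ • x), by rw [mem_zs, sum_translate]; exact f.2⟩
      map_add' := fun _ _ => rfl
      map_smul' := fun _ _ => rfl }
  map_one' := LinearMap.ext fun f => Subtype.ext (funext fun x => by simp)
  map_mul' a b := LinearMap.ext fun f => Subtype.ext (funext fun x => by simp [mul_smul])

theorem zrep_apply (g : G) (f : ↥(zs X)) (x : X) : (zrep G X g f).1 x = f.1 (g⁻¹ • x) := rfl

theorem zrep_fixed [IsPretransitive G X] {f : ↥(zs X)} (h : ∀ g, zrep G X g f = f) : f = 0 := by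
  refine Subtype.ext (funext fun x => ?_)
  have hc : ∀ y, f.1 y = f.1 x := fun y => by
    obtain ⟨g, hg⟩ := exists_smul_eq G x y
    have h1 := congrArg (fun e : ↥(zs X) => e.1 y) (h g)
    simp only [zrep_apply] at h1
    rw [← hg, inv_smul_smul] at h1
    rw [← hg]
    exact h1.symm
  have hs := f.2
  rw [mem_zs, Finset.sum_congr rfl fun y _ => hc y, Finset.sum_const, Finset.card_univ, nsmul_eq_mul] at hs
  have : Nonempty X := ⟨x⟩
  exact (mul_eq_zero.1 hs).resolve_left (Nat.cast_ne_zero.2 Fintype.card_ne_zero)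

theorem finrank_zs [Nonempty X] : Module.finrank ℂ ↥(zs X) = Fintype.card X - 1 := by
  classical
  let φ : (X → ℂ) →ₗ[ℂ] ℂ :=
    { toFun := fun f => ∑ x, f x
      map_add' := fun a b => Finset.sum_add_distrib
      map_smul' := fun c a => by simp [Finset.mul_sum] }
  have hker : LinearMap.ker φ = zs X := by ext f; exact Iff.rfl
  have hsurj : Function.Surjective φ := fun c => ⟨Pi.single (Classical.arbitrary X) c, by simp [φ]⟩
  have := LinearMap.finrank_range_add_finrank_ker φ
  rw [LinearMap.range_eq_top.2 hsurj, finrank_top, Module.finrank_self, hker, Module.finrank_pi] at this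
  omega

end Zero

variable (X : Type*) [Fintype X] [MulAction (Matrix.SpecialLinearGroup (Fin (k + 1)) F) X]
  [IsPretransitive (Matrix.SpecialLinearGroup (Fin (k + 1)) F) X]

/-- Every invariant subspace in the zero-sum module is a nontrivial representation. -/
theorem res_nontrivial (S : Submodule ℂ ↥(zs X))
    (hS : ∀ g, ∀ x ∈ S, zrep (Matrix.SpecialLinearGroup (Fin (k + 1)) F) X g x ∈ S) (h0 : S ≠ ⊥) :
    ∃ g, res (zrep (Matrix.SpecialLinearGroup (Fin (k + 1)) F) X) S hS g ≠ 1 := by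
  by_contra! h
  refine h0 (S.eq_bot_iff.2 fun f hf => zrep_fixed (G := Matrix.SpecialLinearGroup (Fin (k + 1)) F) X fun g => ?_)
  exact congrArg Subtype.val (LinearMap.congr_fun (h g) ⟨f, hf⟩)

theorem zrep_nontrivial (hX : 2 ≤ Fintype.card X) :
    ∃ g, zrep (Matrix.SpecialLinearGroup (Fin (k + 1)) F) X g ≠ 1 := by
  have : Nonempty X := Fintype.card_pos_iff.1 (by omega)
  by_contra! h
  have hsub : Subsingleton ↥(zs X) := ⟨fun a b => by
    rw [zrep_fixed X (f := a) fun g => by rw [h g]; rfl, zrep_fixed X (f := b) fun g => by rw [h g]; rfl]⟩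
  have := (Module.finrank_zero_iff (R := ℂ)).2 hsub
  rw [finrank_zs] at this
  omega

theorem card_bound (hk : 2 ≤ k) (hexc : ¬ Exc k (Fintype.card F)) (hX : 2 ≤ Fintype.card X) :
    qi (Fintype.card F) (k + 1) ≤ Fintype.card X := by
  have : Nonempty X := Fintype.card_pos_iff.1 (by omega)
  have h := bound' hk hexc _ (zrep_nontrivial X hX)
  rw [finrank_zs] at h
  omega

/-- Small permutation modules are irreducible, of multiplicity one. -/
theorem small_irr (hk : 2 ≤ k) {ψ : AddChar F ℂ} (hψ : ψ ≠ 1) (hX : 2 ≤ Fintype.card X)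
    (hsmall : Fintype.card X ≤ 2 * (Fintype.card F ^ k - 1)) :
    (∀ S : Submodule ℂ ↥(zs X),
      (∀ g, ∀ x ∈ S, zrep (Matrix.SpecialLinearGroup (Fin (k + 1)) F) X g x ∈ S) → S = ⊥ ∨ S = ⊤) ∧
    mult (zrep (Matrix.SpecialLinearGroup (Fin (k + 1)) F) X) ψ 1 = 1 := by
  have : Nonempty X := Fintype.card_pos_iff.1 (by omega)
  constructor
  · intro S hS
    by_contra! h
    obtain ⟨S', hS', hi, hsup⟩ := exists_invariant_compl _ S hS
    have h' : S' ≠ ⊥ := fun e => h.2 (by rw [e, sup_bot_eq] at hsup; exact hsup)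
    have low : ∀ (T : Submodule ℂ ↥(zs X))
        (hT : ∀ g, ∀ x ∈ T, zrep (Matrix.SpecialLinearGroup (Fin (k + 1)) F) X g x ∈ T), T ≠ ⊥ →
        Fintype.card F ^ k - 1 ≤ Module.finrank ℂ T := fun T hT hT0 => by
      have hd := finrank_eq (V := ↥T) (res _ T hT) hk hψ
      have hm := mult_one_ne hk (V := ↥T) _ hψ (res_nontrivial X T hT hT0)
      exact le_of_le_of_eq (le_trans (Nat.le_mul_of_pos_right _ (Nat.pos_of_ne_zero hm)) (Nat.le_add_left _ _))
        hd.symm
    have h1 := low S hS h.1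
    have h2 := low S' hS' h'
    have h3 := Submodule.finrank_sup_add_finrank_inf_eq S S'
    rw [hi, hsup, finrank_top, finrank_bot, finrank_zs] at h3
    omega
  · have h1 := finrank_eq (zrep (Matrix.SpecialLinearGroup (Fin (k + 1)) F) X) hk hψ
    rw [finrank_zs] at h1
    have h2 := mult_one_ne hk _ hψ (zrep_nontrivial (F := F) (k := k) X hX)
    by_contra h3
    have : (Fintype.card F ^ k - 1) * 2 ≤
        (Fintype.card F ^ k - 1) * mult (zrep (Matrix.SpecialLinearGroup (Fin (k + 1)) F) X) ψ 1 :=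
      Nat.mul_le_mul_left _ (by omega)
    omega

/-- If the translations have no fixed vector on the zero-sum module they are regular. -/
theorem regular_of_zero {ψ : AddChar F ℂ}
    (h0 : mult (zrep (Matrix.SpecialLinearGroup (Fin (k + 1)) F) X) ψ 0 = 0)
    (hcard : Fintype.card X = Fintype.card F ^ k) (x : X) :
    Function.Bijective fun r : Fin k → F => (qv r : Matrix.SpecialLinearGroup (Fin (k + 1)) F) • x := by
  classical
  have : Nonempty X := ⟨x⟩
  refine (Fintype.bijective_iff_surjective_and_card _).2 ⟨fun y => ?_, by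
    rw [hcard, Fintype.card_fun, Fintype.card_fin]⟩
  by_contra! hy
  let O : Finset X := Finset.univ.image fun r : Fin k → F =>
    (qv r : Matrix.SpecialLinearGroup (Fin (k + 1)) F) • x
  let fn : X → ℂ := fun z => (if z ∈ O then 1 else 0) - (O.card : ℂ) / Fintype.card X
  have hmem : fn ∈ zs X := by
    simp only [mem_zs, fn, Finset.sum_sub_distrib, Finset.sum_boole, Finset.filter_univ_mem, Finset.sum_const,
      Finset.card_univ, nsmul_eq_mul]
    rw [mul_div_cancel₀ _ (Nat.cast_ne_zero.2 Fintype.card_ne_zero), sub_self]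
  have hfix : ∀ r, zrep (Matrix.SpecialLinearGroup (Fin (k + 1)) F) X (qv r) ⟨fn, hmem⟩ = ⟨fn, hmem⟩ :=
    fun r => by
      refine Subtype.ext (funext fun z => ?_)
      have hz : (qv r : Matrix.SpecialLinearGroup (Fin (k + 1)) F)⁻¹ • z ∈ O ↔ z ∈ O := by
        simp only [O, Finset.mem_image, Finset.mem_univ, true_and]
        constructor
        · rintro ⟨s, hs⟩
          exact ⟨r + s, by rw [← qv_add, mul_smul, hs, smul_inv_smul]⟩
        · rintro ⟨s, hs⟩
          exact ⟨-r + s, by
            rw [← qv_add, mul_smul, hs, show qv (-r) = (qv r : Matrix.SpecialLinearGroup (Fin (k + 1)) F)⁻¹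
              from eq_inv_of_mul_eq_one_left (by rw [qv_add, neg_add_cancel, qv_zero])]⟩
      rw [zrep_apply]
      simp only [fn, hz]
  have hE : E (zrep (Matrix.SpecialLinearGroup (Fin (k + 1)) F) X) ψ 0 ⟨fn, hmem⟩ = ⟨fn, hmem⟩ := by
    rw [E, LinearMap.smul_apply, LinearMap.sum_apply]
    simp only [dotProduct_zero, neg_zero, AddChar.map_zero_eq_one, one_smul, hfix, Finset.sum_const,
      Finset.card_univ, Fintype.card_fun, Fintype.card_fin, ← Nat.cast_smul_eq_nsmul ℂ, smul_smul,
      Nat.cast_pow, inv_mul_cancel₀ qk_ne]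
  rw [mult, Submodule.finrank_eq_zero, LinearMap.range_eq_bot] at h0
  rw [h0, LinearMap.zero_apply] at hE
  have hfx : fn x = 0 := (congrArg (fun e : ↥(zs X) => e.1 x) hE).symm
  have hfy : fn y = 0 := (congrArg (fun e : ↥(zs X) => e.1 y) hE).symm
  have hxO : x ∈ O := Finset.mem_image.2 ⟨0, Finset.mem_univ _, by rw [qv_zero, one_smul]⟩
  have hyO : y ∉ O := by
    simp only [O, Finset.mem_image, Finset.mem_univ, true_and, not_exists]
    exact hy
  simp only [fn, if_pos hxO, if_neg hyO] at hfx hfy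
  exact one_ne_zero (show (1 : ℂ) = 0 by linear_combination hfx - hfy)

theorem no_fixed_point (hk : 2 ≤ k) {ψ : AddChar F ℂ}
    (h0 : mult (zrep (Matrix.SpecialLinearGroup (Fin (k + 1)) F) X) ψ 0 = 0)
    (hcard : Fintype.card X = Fintype.card F ^ k) {g : Matrix.SpecialLinearGroup (Fin (k + 1)) F}
    {a φ : Fin (k + 1) → F} (ha : a ≠ 0) (hφ : φ ≠ 0) (h : φ ⬝ᵥ a = 0) (hg : g.1 = tv a φ) (x : X) :
    g • x ≠ x := by
  have hone : (1 : Fin k → F) ≠ 0 := fun h => one_ne_zero (congrFun h ⟨0, by omega⟩)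
  obtain ⟨u, hu⟩ := isConj_iff.1 (tv_isConj hk ha hφ h hg hone)
  intro hx
  have h1 : (qv (1 : Fin k → F) : Matrix.SpecialLinearGroup (Fin (k + 1)) F) • (u • x) = u • x := by
    rw [← hu, mul_smul, mul_smul, inv_smul_smul, hx]
  refine hone ((regular_of_zero X h0 hcard (u • x)).1 ?_)
  show (qv 1 : Matrix.SpecialLinearGroup (Fin (k + 1)) F) • (u • x) = _
  rw [h1]
  simp [qv_zero]

end Cfsg.Agent.Small.MinDeg
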